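import Cfsg.Agent.Lib.SmallSimple.SelfCentDegrees
import Cfsg.Agent.Lib.Struct4.SylowParts
import Cfsg.Agent.S0065

/-!
No simple group has order 459648.
-/

set_option autoImplicit false

namespace Cfsg.Agent.Lib.SmallSimple

open scoped Pointwise
open MulAction

section aux

variable {G : Type*} [Group G] [Finite G]

/-- An element normalising a subgroup of prime order centralises it if its order is coprime to `p - 1`. -/
theorem mem_centralizer_of_coprime {p : ℕ} [Fact p.Prime] (P : Subgroup G) (hP : Nat.card P = p) {g : G}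
    (hg : g ∈ Subgroup.normalizer (P : Set G)) (h : (orderOf g).Coprime (p - 1)) :
    g ∈ Subgroup.centralizer (P : Set G) := by
  have hp : p.Prime := Fact.out
  have : IsCyclic P := isCyclic_of_prime_card hP
  set g' : Subgroup.normalizer (P : Set G) := ⟨g, hg⟩
  have h1 : orderOf (P.normalizerMonoidHom g') ∣ orderOf g := by
    refine (orderOf_map_dvd _ g').trans (dvd_of_eq ?_)
    rw [← Subgroup.orderOf_coe]
  have h2 : orderOf (P.normalizerMonoidHom g') ∣ p - 1 := by
    have := orderOf_dvd_natCard (P.normalizerMonoidHom g')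
    rwa [IsCyclic.card_mulAut, hP, Nat.totient_prime hp] at this
  have h3 : g' ∈ P.normalizerMonoidHom.ker :=
    MonoidHom.mem_ker.2 (orderOf_eq_one_iff.1 (Nat.eq_one_of_dvd_coprimes h h1 h2))
  rwa [Subgroup.normalizerMonoidHom_ker] at h3

theorem exists_normalizer_index {p : ℕ} [Fact p.Prime] (P : Subgroup G) (hP : Nat.card P = p) :
    ∃ i, i ∣ p - 1 ∧ Nat.card (Subgroup.normalizer (P : Set G)) = Nat.card (Subgroup.centralizer (P : Set G)) * i := by
  have : IsCyclic P := isCyclic_of_prime_card hP
  refine ⟨((Subgroup.centralizer (P : Set G)).subgroupOf (Subgroup.normalizer (P : Set G))).index, ?_, ?_⟩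
  · have key := Subgroup.card_dvd_of_injective _ (QuotientGroup.kerLift_injective P.normalizerMonoidHom)
    rw [IsCyclic.card_mulAut, hP, Nat.totient_prime Fact.out, Subgroup.normalizerMonoidHom_ker] at key
    exact key
  · have hle : Subgroup.centralizer (P : Set G) ≤ Subgroup.normalizer (P : Set G) := by
      intro x hx
      rw [Subgroup.mem_normalizer_iff]
      intro z
      constructor
      · intro hz
        rw [← Subgroup.mem_centralizer_iff.1 hx z hz, mul_inv_cancel_right]; exact hz
      · intro hz
        have h := Subgroup.mem_centralizer_iff.1 hx _ hz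
        have : x * z * x⁻¹ = z := mul_left_cancel (h.symm.trans (by group) : x * (x * z * x⁻¹) = x * z)
        exact this ▸ hz
    rw [← Subgroup.card_mul_index ((Subgroup.centralizer (P : Set G)).subgroupOf (Subgroup.normalizer (P : Set G))),
      Nat.card_congr (Subgroup.subgroupOfEquivOfLe hle).toEquiv]

/-- No group of order dividing 3648 or 5472 has 96 Sylow 19-subgroups. -/
theorem card_sylow_ne_ninetysix {H : Type*} [Group H] [Finite H]
    (hH : Nat.card H ∣ 3648 ∨ Nat.card H ∣ 5472) : Nat.card (Sylow 19 H) ≠ 96 := by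
  have : Fact (Nat.Prime 19) := ⟨by norm_num⟩
  suffices Nat.card (Sylow 19 H) % 19 = 1 ∧ Nat.card (Sylow 19 H) ≠ 96 from this.2
  refine Cfsg.Agent.Lib.Struct4.card_sylow_induction 19
    (fun K _ _ => Nat.card K ∣ 3648 ∨ Nat.card K ∣ 5472)
    (fun K _ _ hK L => hK.imp (fun h => L.card_subgroup_dvd_card.trans h) (fun h => L.card_subgroup_dvd_card.trans h))
    (fun K _ _ hK L _ => hK.imp (fun h => L.card_quotient_dvd_card.trans h) (fun h => L.card_quotient_dvd_card.trans h))
    (fun n => n % 19 = 1 ∧ n ≠ 96) ?_ ?_ ?_ H hH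
  · rintro a b ⟨ha, ha'⟩ ⟨hb, hb'⟩
    refine ⟨by rw [Nat.mul_mod, ha, hb], fun h => ?_⟩
    have : a ∣ 96 := ⟨b, h.symm⟩
    have := Nat.le_of_dvd (by norm_num) this
    interval_cases a <;> omega
  · intro n hn h
    constructor
    · conv_lhs => rw [← Nat.prod_factorization_pow_eq_self hn]
      rw [Finsupp.prod, Finset.prod_nat_mod]
      rw [Finset.prod_congr rfl fun q hq => show q ^ n.factorization q % 19 = 1 from
        h q (Nat.prime_of_mem_primeFactors (by simpa using hq)), Finset.prod_const_one]
      rfl
    · rintro rfl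
      have := h 2 Nat.prime_two
      rw [show (96 : ℕ) = 2 ^ 5 * 3 from rfl, Nat.factorization_mul_apply_of_coprime (by norm_num),
        Nat.prime_two.factorization_pow, Finsupp.single_eq_same,
        Nat.factorization_eq_zero_of_not_dvd (by norm_num : ¬ 2 ∣ 3)] at this
      exact absurd this (by decide)
  · intro K _ _ hK hKs
    refine ⟨card_sylow_modEq_one 19 K, fun h96 => ?_⟩
    obtain ⟨P⟩ : Nonempty (Sylow 19 K) := inferInstance
    have hidx := (Subgroup.normalizer ((P : Subgroup K) : Set K)).card_mul_index
    rw [← card_sylow_eq_index P, h96] at hidx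
    have h19 : 19 ∣ Nat.card K := by
      by_contra h
      have : Subsingleton (Sylow 19 K) := ⟨fun A B => Sylow.ext (by
        have hb : ∀ R : Sylow 19 K, (R : Subgroup K) = ⊥ := fun R => by
          obtain ⟨n, hn⟩ := R.isPGroup'.exists_card_eq
          refine Subgroup.card_eq_one.1 ?_
          rcases n with _ | n
          · simpa using hn
          · exact absurd ((hn ▸ dvd_pow_self 19 n.succ_ne_zero).trans (R : Subgroup K).card_subgroup_dvd_card) h
        rw [hb A, hb B])⟩
      rw [Nat.card_of_subsingleton P] at h96; omega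
    have hG : ¬ IsMulCommutative K := not_isMulCommutative_of_card (fun hp => by
      rcases (Nat.dvd_prime hp).1 h19 with h | h
      · norm_num at h
      · rw [← h] at hidx; omega)
    have hd : 1824 ∣ Nat.card K :=
      Nat.Coprime.mul_dvd_of_dvd_of_dvd (by norm_num : Nat.Coprime 19 96) h19 (Dvd.intro_left _ hidx)
    have hcases : Nat.card K = 1824 ∨ Nat.card K = 3648 ∨ Nat.card K = 5472 := by
      obtain ⟨c, hc⟩ := hd
      have key : ∀ c < 4, (1824 * c ∣ 3648 ∨ 1824 * c ∣ 5472) → c = 1 ∨ c = 2 ∨ c = 3 := by
        intro v hv hd; interval_cases v <;> omega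
      have hle : c < 4 := by
        rcases hK with h | h
        · have := Nat.le_of_dvd (by norm_num) h; omega
        · have := Nat.le_of_dvd (by norm_num) h; omega
      rcases key c hle (hc ▸ hK) with rfl | rfl | rfl <;> omega
    rcases hcases with h | h | h
    · have hP : Nat.card (P : Subgroup K) = 19 := by
        simpa using card_sylow_subgroup P (k := 1) (m := 96) (by rw [h]; norm_num) (by norm_num)
      refine card_sylow_ne_index hG P h19 (isCyclic_of_prime_card hP).isMulCommutative ?_
      have := (P : Subgroup K).card_mul_index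
      rw [hP, h] at this
      omega
    · exact card_ne_3648 h
    · exact card_ne_5472 h

end aux

section main

variable {G : Type*} [Group G] [Finite G] [IsSimpleGroup G]

set_option maxHeartbeats 2000000 in
theorem card_ne_459648 : Nat.card G ≠ 459648 := by
  classical
  intro hc
  have : Fact (Nat.Prime 19) := ⟨by norm_num⟩
  have : Fact (Nat.Prime 7) := ⟨by norm_num⟩
  have : Fact (Nat.Prime 2) := ⟨Nat.prime_two⟩
  have hG : ¬ IsMulCommutative G := not_isMulCommutative_of_card (by rw [hc]; norm_num)
  obtain ⟨P⟩ : Nonempty (Sylow 19 G) := inferInstance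
  have hP : Nat.card (P : Subgroup G) = 19 := by
    simpa using card_sylow_subgroup P (k := 1) (m := 24192) (by rw [hc]; norm_num) (by norm_num)
  set N := Subgroup.normalizer ((P : Subgroup G) : Set G) with hNdef
  set C := Subgroup.centralizer ((P : Subgroup G) : Set G) with hCdef
  obtain ⟨i, hi, hNC⟩ := exists_normalizer_index (P : Subgroup G) hP
  rw [← hNdef, ← hCdef] at hNC
  obtain ⟨hn1, hnm, hnfac⟩ := card_sylow_facts (p := 19) hG (by rw [hc]; norm_num)
  obtain ⟨t, ht⟩ : 19 ∣ Nat.card N :=
    dvd_trans (dvd_of_eq hP.symm) (Subgroup.card_dvd_of_le Subgroup.le_normalizer)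
  have hN19 : Nat.card (Sylow 19 G) * t = 24192 := by
    have h := N.card_mul_index
    rw [← card_sylow_eq_index P, hc, ht] at h
    nlinarith
  have hcases : t = 252 ∨ t = 24 := by
    have ht5 : t % 19 = 5 := by
      have := congrArg (· % 19) hN19
      simpa [Nat.mul_mod, hnm] using this
    have hn20 : 20 ≤ Nat.card (Sylow 19 G) := by omega
    have ht2 : t < 1216 := by nlinarith
    obtain ⟨k, rfl⟩ : ∃ k, t = 19 * k + 5 := ⟨t / 19, by omega⟩
    have key : ∀ k < 64, 19 * k + 5 ∣ 24192 → k = 13 ∨ k = 1 ∨ k = 0 ∨ 1209 < 19 * k + 5 := by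
        intro v hv hd; interval_cases v <;> omega
    rcases key k (by omega) (Dvd.intro_left _ hN19) with rfl | rfl | rfl | h
    · exact Or.inl rfl
    · exact Or.inr rfl
    · omega
    · nlinarith
  obtain ⟨⟨x, hxP⟩, hx0⟩ : ∃ x : (P : Subgroup G), orderOf x = 19 :=
    exists_prime_orderOf_dvd_card' 19 (by rw [hP])
  have hx : orderOf x = 19 := by rw [← hx0, Subgroup.orderOf_mk]
  have hPx : Subgroup.zpowers x = (P : Subgroup G) :=
    Subgroup.eq_of_le_of_card_ge (by rwa [Subgroup.zpowers_le]) (by rw [hP, Nat.card_zpowers, hx])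
  have hPC : (P : Subgroup G) ≤ C := fun a ha => Subgroup.mem_centralizer_iff.2 fun b hb =>
    congrArg Subtype.val ((isCyclic_of_prime_card hP).isMulCommutative.is_comm.comm ⟨b, hb⟩ ⟨a, ha⟩)
  rcases hcases with rfl | rfl
  · -- |N(P)| = 4788
    have h7C : 7 ∣ Nat.card C := by
      refine Nat.Coprime.dvd_of_dvd_mul_right ?_ (show 7 ∣ Nat.card C * i by rw [← hNC, ht]; norm_num)
      exact Nat.Coprime.coprime_dvd_right hi (by norm_num)
    obtain ⟨⟨y, hyC⟩, hy0⟩ := exists_prime_orderOf_dvd_card' 7 h7C
    have hy : orderOf y = 7 := by rw [← hy0, Subgroup.orderOf_mk]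
    have hcard7 : ∀ R : Sylow 7 G, Nat.card (R : Subgroup G) = 7 := fun R => by
      simpa using card_sylow_subgroup R (k := 1) (m := 65664) (by rw [hc]; norm_num) (by norm_num)
    obtain ⟨Q, hQ⟩ := (IsPGroup.of_card (n := 1) (G := Subgroup.zpowers y)
      (by rw [Nat.card_zpowers, hy, pow_one])).exists_le_sylow
    have hQy : (Q : Subgroup G) = Subgroup.zpowers y :=
      (Subgroup.eq_of_le_of_card_ge hQ (by rw [hcard7, Nat.card_zpowers, hy])).symm
    -- fixed points of P on Sylow 7-subgroups are the Sylow 7-subgroups of C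
    have hfixC : ∀ R : Sylow 7 G, R ∈ fixedPoints (P : Subgroup G) (Sylow 7 G) ↔ (R : Subgroup G) ≤ C := by
      intro R
      constructor
      · intro hR a ha
        have hxR : x ∈ Subgroup.normalizer ((R : Subgroup G) : Set G) :=
          Sylow.smul_eq_iff_mem_normalizer.1 (hR ⟨x, hxP⟩)
        have hxc := mem_centralizer_of_coprime (R : Subgroup G) (hcard7 R) hxR (by rw [hx]; norm_num)
        rw [hCdef, ← hPx, Subgroup.mem_centralizer_iff]
        intro b hb
        obtain ⟨n, rfl⟩ := Subgroup.mem_zpowers_iff.1 hb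
        exact ((show Commute a x from Subgroup.mem_centralizer_iff.1 hxc a ha).zpow_right n).eq.symm
      · intro hR g
        refine Sylow.smul_eq_iff_mem_normalizer.2 ?_
        change (g : G) ∈ Subgroup.normalizer ((R : Subgroup G) : Set G)
        rw [Subgroup.mem_normalizer_iff]
        intro z
        constructor
        · intro hz
          rw [Subgroup.mem_centralizer_iff.1 (hR hz) g g.2, mul_inv_cancel_right]; exact hz
        · intro hz
          have h := Subgroup.mem_centralizer_iff.1 (hR hz) g g.2
          have : (g : G) * z * (g : G)⁻¹ = z := mul_left_cancel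
            (h.trans (by group) : (g : G) * ((g : G) * z * (g : G)⁻¹) = (g : G) * z)
          exact this ▸ hz
    let emap : fixedPoints (P : Subgroup G) (Sylow 7 G) → Sylow 7 C := fun R => (R : Sylow 7 G).subtype ((hfixC R).1 R.2)
    have hbij : Function.Bijective emap := by
      refine ⟨fun R S h => Subtype.ext (Sylow.subtype_injective h), fun R => ?_⟩
      have hR : Nat.card (R : Subgroup C) = 7 := by
        obtain ⟨n, hn⟩ := R.isPGroup'.exists_card_eq
        have h7 : 7 ∣ Nat.card (R : Subgroup C) := R.dvd_card_of_dvd_card h7C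
        obtain ⟨S, hS⟩ := (R.isPGroup'.map C.subtype).exists_le_sylow
        have := Subgroup.card_dvd_of_le hS
        rw [Subgroup.card_map_of_injective C.subtype_injective, hcard7] at this
        exact Nat.dvd_antisymm this h7
      obtain ⟨S, hS⟩ := (R.isPGroup'.map C.subtype).exists_le_sylow
      have hSR : (S : Subgroup G) = (R : Subgroup C).map C.subtype :=
        (Subgroup.eq_of_le_of_card_ge hS (by rw [hcard7, Subgroup.card_map_of_injective C.subtype_injective, hR])).symm
      have hSC : (S : Subgroup G) ≤ C := hSR ▸ Subgroup.map_subtype_le _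
      refine ⟨⟨S, (hfixC S).2 hSC⟩, Sylow.ext ?_⟩
      rw [Sylow.coe_subtype, show (S : Subgroup G) = _ from hSR, Subgroup.subgroupOf,
        Subgroup.comap_map_eq_self_of_injective C.subtype_injective]
    set f := Nat.card (fixedPoints (P : Subgroup G) (Sylow 7 G)) with hfdef
    have hf : f = Nat.card (Sylow 7 C) := Nat.card_eq_of_bijective _ hbij
    have hf7 : f % 7 = 1 := hf ▸ card_sylow_modEq_one 7 C
    have hfdvd : f ∣ 4788 := by
      obtain ⟨R⟩ : Nonempty (Sylow 7 C) := inferInstance
      rw [hf, R.card_eq_index_normalizer]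
      refine (Subgroup.index_dvd_card _).trans ?_
      exact Dvd.intro _ (by rw [← hNC, ht])
    have hfmod : Nat.card (Sylow 7 G) % 19 = f % 19 :=
      P.isPGroup'.card_modEq_card_fixedPoints (Sylow 7 G)
    obtain ⟨h7n1, h7nm, h7fac⟩ := card_sylow_facts (p := 7) hG (by rw [hc]; norm_num)
    have hn19 : 19 ≤ Nat.card (Sylow 7 G) := (Nat.Prime.dvd_factorial (by norm_num)).1
      ((show 19 ∣ 2 * Nat.card G by rw [hc]; norm_num).trans h7fac)
    have hn7 : Nat.card (Sylow 7 G) = 36 ∨ Nat.card (Sylow 7 G) = 64 ∨ Nat.card (Sylow 7 G) = 288 := by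
      have h19N : 19 ∣ Nat.card (Subgroup.normalizer ((Q : Subgroup G) : Set G)) := by
        refine dvd_trans (dvd_of_eq hP.symm) (Subgroup.card_dvd_of_le fun g hg => ?_)
        exact Sylow.smul_eq_iff_mem_normalizer.1 ((hfixC Q).2
          (by rw [hQy, Subgroup.zpowers_le]; exact hyC) ⟨g, hg⟩)
      have h7N : 7 ∣ Nat.card (Subgroup.normalizer ((Q : Subgroup G) : Set G)) :=
        dvd_trans (dvd_of_eq (hcard7 Q).symm) (Subgroup.card_dvd_of_le Subgroup.le_normalizer)
      obtain ⟨s, hs⟩ := Nat.Coprime.mul_dvd_of_dvd_of_dvd (by norm_num : Nat.Coprime 19 7) h19N h7N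
      have h := (Subgroup.normalizer ((Q : Subgroup G) : Set G)).card_mul_index
      rw [← card_sylow_eq_index Q, hc, hs] at h
      have hsn : s * Nat.card (Sylow 7 G) = 3456 := by nlinarith
      have hs5 : s % 7 = 5 := by
        have := congrArg (· % 7) hsn
        simpa [Nat.mul_mod, h7nm] using this
      have hn22 : 22 ≤ Nat.card (Sylow 7 G) := by omega
      have hs2 : s < 158 := by nlinarith
      obtain ⟨k, rfl⟩ : ∃ k, s = 7 * k + 5 := ⟨s / 7, by omega⟩
      have key : ∀ k < 22, 7 * k + 5 ∣ 3456 → k = 1 ∨ k = 7 ∨ k = 13 := by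
        intro v hv hd; interval_cases v <;> omega
      rcases key k (by omega) (Dvd.intro _ hsn) with rfl | rfl | rfl <;> omega
    have hfle : f ≤ Nat.card (Sylow 7 G) := Nat.card_le_card_of_injective _ Subtype.val_injective
    have hall : f = Nat.card (Sylow 7 G) := by
      obtain ⟨j, hj⟩ : ∃ j, f = 7 * j + 1 := ⟨f / 7, by omega⟩
      have key : ∀ j < 42, 7 * j + 1 ∣ 4788 → j = 0 ∨ j = 5 ∨ j = 8 := by
        intro v hv hd; interval_cases v <;> omega
      rcases key j (by omega) (hj ▸ hfdvd) with rfl | rfl | rfl <;> omega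
    -- hence P acts trivially
    have hxall : ∀ R : Sylow 7 G, x • R = R := by
      intro R
      have hsurj : Function.Surjective (Subtype.val : fixedPoints (P : Subgroup G) (Sylow 7 G) → Sylow 7 G) :=
        ((Function.Injective.bijective_of_nat_card_le Subtype.val_injective hall.ge)).2
      obtain ⟨⟨R', hR'⟩, rfl⟩ := hsurj R
      exact hR' ⟨x, hxP⟩
    let φ := toPermHom G (Sylow 7 G)
    rcases (inferInstance : φ.ker.Normal).eq_bot_or_eq_top with h | h
    · have : x ∈ φ.ker := Equiv.ext hxall
      rw [h, Subgroup.mem_bot] at this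
      rw [this, orderOf_one] at hx; omega
    · have hsub : Subsingleton (Sylow 7 G) := ⟨fun A B => by
        obtain ⟨g, rfl⟩ := exists_smul_eq G A B
        exact (DFunLike.congr_fun (MonoidHom.mem_ker.1 (h ▸ Subgroup.mem_top g : g ∈ φ.ker)) A).symm⟩
      rw [Nat.card_of_subsingleton Q] at h7n1; omega
  · -- |N(P)| = 456
    have hN456 : Nat.card N = 456 := by rw [ht]
    have h4C : 4 ∣ Nat.card C := by
      have hile := Nat.le_of_dvd (by norm_num) hi
      have : i ≠ 0 := by rintro rfl; rw [mul_zero] at hNC; omega
      have hNC' : Nat.card C * i = 456 := hNC ▸ hN456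
      interval_cases i <;> first | omega | exact absurd hi (by norm_num)
    obtain ⟨R₀⟩ : Nonempty (Sylow 2 C) := inferInstance
    set R : Subgroup G := (R₀ : Subgroup C).map C.subtype with hRdef
    have hRC : R ≤ C := Subgroup.map_subtype_le _
    obtain ⟨n, hn⟩ : ∃ n, Nat.card R = 2 ^ n :=
      ((R₀.isPGroup').map C.subtype).exists_card_eq
    have h4R : 4 ∣ Nat.card R := by
      rw [hRdef, Subgroup.card_map_of_injective C.subtype_injective]
      exact R₀.pow_dvd_card_of_pow_dvd_card (n := 2) h4C
    have hR8 : Nat.card R ∣ 456 := (Subgroup.card_dvd_of_le hRC).trans (Dvd.intro _ (hNC ▸ hN456))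
    have hn4 : n = 2 ∨ n = 3 := by
      rw [hn] at h4R hR8
      have h2 : 2 ≤ n := (Nat.pow_dvd_pow_iff_le_right (by norm_num : 1 < 2)).1 (by simpa using h4R)
      by_contra hh
      have h16 : 16 ∣ 456 := (show 2 ^ 4 ∣ 2 ^ n from pow_dvd_pow 2 (by omega)).trans hR8
      omega
    obtain ⟨W, hW, hRW⟩ := Sylow.exists_subgroup_card_pow_prime_le 2 (m := 4) (G := G)
      (by rw [hc]; norm_num) R hn (by omega)
    -- a central involution of W inside R
    have hcore : (R.subgroupOf W).normalCore ≠ ⊥ := by
      intro h
      rw [Subgroup.normalCore_eq_ker] at h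
      have hinj : Function.Injective (toPermHom W (W ⧸ R.subgroupOf W)) := (MonoidHom.ker_eq_bot_iff _).1 h
      have hd := Subgroup.card_dvd_of_injective _ hinj
      have hidx : (R.subgroupOf W).index ≤ 4 := by
        have h' := (R.subgroupOf W).card_mul_index
        rw [Nat.card_congr (Subgroup.subgroupOfEquivOfLe hRW).toEquiv, hW, hn] at h'
        rcases hn4 with rfl | rfl <;> norm_num at h' <;> omega
      have h24 : Nat.card (Equiv.Perm (W ⧸ R.subgroupOf W)) ∣ 24 := by
        rw [Nat.card_perm]
        exact (Nat.factorial_dvd_factorial hidx)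
      have := hd.trans h24
      rw [hW] at this
      norm_num at this
    have : Group.IsNilpotent W := (IsPGroup.of_card (p := 2) (n := 4) hW).isNilpotent
    have hzc := Cfsg.Agent.S0065.inf_center_ne_bot (N := (R.subgroupOf W).normalCore) inferInstance hcore
    obtain ⟨⟨z₀, hz₀⟩, hz₀o⟩ := exists_prime_orderOf_dvd_card' 2
      (show 2 ∣ Nat.card ((R.subgroupOf W).normalCore ⊓ Subgroup.center W : Subgroup W) by
        obtain ⟨k, hk⟩ := ((IsPGroup.of_card (p := 2) (n := 4) hW).to_subgroup
          ((R.subgroupOf W).normalCore ⊓ Subgroup.center W)).exists_card_eq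
        rw [hk]
        refine dvd_pow_self 2 fun h0 => hzc ?_
        rw [h0, pow_zero] at hk
        exact Subgroup.card_eq_one.1 hk)
    set z : G := (z₀ : G)
    have hz : orderOf z = 2 := (Subgroup.orderOf_coe z₀).trans ((Subgroup.orderOf_mk z₀ hz₀).symm.trans hz₀o)
    have hzC : z ∈ C := hRC ((R.subgroupOf W).normalCore_le hz₀.1 : z₀ ∈ R.subgroupOf W)
    set H := Subgroup.centralizer ({z} : Set G) with hHdef
    have hWH : W ≤ H := fun w hw => Subgroup.mem_centralizer_singleton_iff.2
      (congrArg Subtype.val (Subgroup.mem_center_iff.1 hz₀.2 ⟨w, hw⟩))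
    have hPH : (P : Subgroup G) ≤ H := fun a ha => Subgroup.mem_centralizer_singleton_iff.2
      (Subgroup.mem_centralizer_iff.1 hzC a ha)
    have hzH : z ∈ H := Subgroup.mem_centralizer_singleton_iff.2 rfl
    have hz1 : z ≠ 1 := fun h => by rw [h, orderOf_one] at hz; omega
    have hHtop : H ≠ ⊤ := by
      intro h
      rcases (inferInstance : (Subgroup.center G).Normal).eq_bot_or_eq_top with h' | h'
      · refine hz1 ((Subgroup.mem_bot (G := G)).1 (h' ▸ Subgroup.mem_center_iff.2 fun g => ?_))
        exact Subgroup.mem_centralizer_singleton_iff.1 ((by rw [← hHdef, h]; exact Subgroup.mem_top g) : g ∈ Subgroup.centralizer ({z} : Set G))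
      · exact hG (Subgroup.center_eq_top_iff.1 h')
    set nH := Nat.card (Sylow 19 H) with hnHdef
    have hnH : nH = N.relIndex H := Cfsg.Agent.Lib.Struct4.card_sylow_of_le P H hPH
    obtain ⟨k, hk, hk24, hk2⟩ : ∃ k, Nat.card (N ⊓ H : Subgroup G) = 19 * k ∧ k ∣ 24 ∧ 2 ∣ k := by
      obtain ⟨k, hk⟩ : 19 ∣ Nat.card (N ⊓ H : Subgroup G) :=
        dvd_trans (dvd_of_eq hP.symm) (Subgroup.card_dvd_of_le (le_inf Subgroup.le_normalizer hPH))
      refine ⟨k, hk, ?_, ?_⟩
      · have := Subgroup.card_dvd_of_le (inf_le_left : N ⊓ H ≤ N)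
        rw [hk, hN456] at this
        exact Nat.dvd_of_mul_dvd_mul_left (by norm_num) (this : 19 * k ∣ 19 * 24)
      · have hzNH : z ∈ N ⊓ H := by
          refine ⟨?_, hzH⟩
          change z ∈ Subgroup.normalizer ((P : Subgroup G) : Set G)
          rw [Subgroup.mem_normalizer_iff]
          intro w
          constructor
          · intro hw
            rw [← Subgroup.mem_centralizer_iff.1 hzC w hw, mul_inv_cancel_right]; exact hw
          · intro hw
            have h := Subgroup.mem_centralizer_iff.1 hzC _ hw
            have : z * w * z⁻¹ = w := mul_left_cancel (h.symm.trans (by group) : z * (z * w * z⁻¹) = z * w)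
            exact this ▸ hw
        have := Subgroup.orderOf_dvd_natCard _ hzNH
        rw [hz, hk] at this
        omega
    have hcardH : Nat.card H = 19 * k * nH := by
      rw [hnH, ← Subgroup.inf_relIndex_right, ← hk, ← ((N ⊓ H).subgroupOf H).card_mul_index,
        Nat.card_congr (Subgroup.subgroupOfEquivOfLe (inf_le_right : N ⊓ H ≤ H)).toEquiv]
      rfl
    obtain ⟨idx, hidx⟩ : ∃ idx, H.index = idx := ⟨_, rfl⟩
    have hki : k * nH * idx = 24192 := by
      have h := H.card_mul_index
      rw [hcardH, hidx, hc] at h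
      nlinarith
    have hidx19 : 19 ≤ idx := by
      have h := two_mul_card_dvd_factorial hG H hHtop
      rw [hidx] at h
      exact (Nat.Prime.dvd_factorial (by norm_num)).1 ((show 19 ∣ 2 * Nat.card G by rw [hc]; norm_num).trans h)
    have hnHmod : nH % 19 = 1 := card_sylow_modEq_one 19 H
    have hnH1 : nH ≠ 1 := by
      intro h1
      have hle : H ≤ N := Subgroup.relIndex_eq_one.1 (hnH ▸ h1)
      have h16 := Subgroup.card_dvd_of_le (hWH.trans hle)
      rw [hW, hN456] at h16
      norm_num at h16
    have hk12 : k ≤ 24 := Nat.le_of_dvd (by norm_num) hk24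
    have hkey : nH = 96 ∧ (k = 2 ∨ k = 4 ∨ k = 6 ∨ k = 12) := by
      have hk0 : 0 < k := Nat.pos_of_ne_zero (by rintro rfl; simp at hki)
      have hnle : nH ≤ 1008 := by
        have h0 : Nat.card (Sylow 19 G) = 1008 := by omega
        rw [← h0, card_sylow_eq_index P, ← hNdef, hnH]
        refine (Subgroup.relIndex_le_of_le_right (le_top : H ≤ ⊤) ?_).trans_eq N.relIndex_top_right
        rw [Subgroup.relIndex_top_right]; exact Subgroup.index_ne_zero_of_finite
      obtain ⟨j, hj⟩ : ∃ j, nH = 19 * j + 1 := ⟨nH / 19, by omega⟩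
      have key : ∀ j < 54, 19 * j + 1 ∣ 24192 → j = 0 ∨ j = 5 ∨ j = 53 := by
        intro v hv hd; interval_cases v <;> omega
      rcases key j (by omega) (hj ▸ Dvd.intro (k * idx) (by rw [← hki]; ring)) with rfl | rfl | rfl
      · omega
      · refine ⟨hj, ?_⟩
        have h252 : k ∣ 252 := Dvd.intro idx (by rw [hj] at hki; nlinarith)
        interval_cases k <;> omega
      · rw [hj] at hki
        have : k * idx = 24 := by nlinarith
        have := Nat.le_of_dvd (by norm_num) (Dvd.intro_left k this : idx ∣ 24)
        have : 2 ≤ k := Nat.le_of_dvd hk0 hk2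
        nlinarith
    obtain ⟨hnH96, hkc⟩ := hkey
    by_cases hk12' : k = 12
    · -- index 21
      subst hk12'
      rw [hnH96] at hki
      have hidx21 : idx = 21 := by omega
      let φ := toPermHom G (G ⧸ H)
      have hcardQ : Nat.card (G ⧸ H) = 21 := by rw [← Subgroup.index_eq_card, hidx, hidx21]
      have hker : φ.ker = ⊥ := by
        refine ((inferInstance : φ.ker.Normal).eq_bot_or_eq_top).resolve_right fun h => hHtop ?_
        refine eq_top_iff.2 fun g _ => ?_
        have hg : g ∈ φ.ker := h ▸ Subgroup.mem_top g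
        rw [← Subgroup.normalCore_eq_ker] at hg
        exact Subgroup.normalCore_le H hg
      have hfx := P.isPGroup'.card_modEq_card_fixedPoints (G ⧸ H)
      set F := fixedPoints (P : Subgroup G) (G ⧸ H)
      obtain ⟨q, hq⟩ : ∃ q : G ⧸ H, q ∉ F := by
        by_contra hall
        push Not at hall
        have : x ∈ φ.ker := Equiv.ext fun q => hall q ⟨x, hxP⟩
        rw [hker, Subgroup.mem_bot] at this
        rw [this, orderOf_one] at hx; omega
      have hxfix : ∀ a : ℕ, a < 19 → x ^ a • q = q → a = 0 := by
        intro a ha haq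
        by_contra ha0
        refine hq fun g => ?_
        have hmem : (g : G) ∈ Subgroup.zpowers (x ^ a) := by
          have hord : orderOf (x ^ a) = 19 := by
            rw [Nat.Coprime.orderOf_pow ?_, hx]
            rw [hx, Nat.Prime.coprime_iff_not_dvd (by norm_num)]
            intro hd
            have := Nat.le_of_dvd (by omega) hd
            omega
          have : Subgroup.zpowers (x ^ a) = (P : Subgroup G) :=
            Subgroup.eq_of_le_of_card_ge (by rw [Subgroup.zpowers_le]; exact Subgroup.pow_mem _ hxP a)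
              (by rw [hP, Nat.card_zpowers, hord])
          exact (SetLike.ext_iff.1 this _).2 g.2
        obtain ⟨m, hm⟩ := Subgroup.mem_zpowers_iff.1 hmem
        change (g : G) • q = q
        rw [← hm]
        exact Subgroup.zpow_mem (MulAction.stabilizer G q) (show x ^ a ∈ MulAction.stabilizer G q from haq) m
      let pt : Fin 19 → G ⧸ H := fun a => x ^ (a : ℕ) • q
      have hptinj : Function.Injective pt := by
        have key : ∀ a b : Fin 19, (a : ℕ) ≤ (b : ℕ) → pt a = pt b → a = b := by
          intro a b hle hab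
          have hba : x ^ ((b : ℕ) - (a : ℕ)) • q = q := by
            refine MulAction.injective (x ^ (a : ℕ)) ?_
            change x ^ (a : ℕ) • x ^ ((b : ℕ) - (a : ℕ)) • q = x ^ (a : ℕ) • q
            rw [smul_smul, ← pow_add, Nat.add_sub_cancel' hle]
            exact hab.symm
          have := hxfix _ (by omega) hba
          exact Fin.ext (by omega)
        intro a b hab
        rcases le_total (a : ℕ) (b : ℕ) with h | h
        · exact key a b h hab
        · exact (key b a h hab.symm).symm
      have hptF : ∀ a, pt a ∉ F := fun a ha => hq fun g => by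
        have h := ha g
        have hcomm : (g : G) * x ^ (a : ℕ) = x ^ (a : ℕ) * g :=
          congrArg Subtype.val ((isCyclic_of_prime_card hP).isMulCommutative.is_comm.comm g
            ⟨x ^ (a : ℕ), Subgroup.pow_mem _ hxP _⟩)
        change (g : G) • pt a = pt a at h
        simp only [pt, smul_smul, hcomm] at h
        rw [mul_smul] at h
        exact smul_left_cancel _ h
      have hH : ((1 : G) : G ⧸ H) ∈ F := fun g => by
        change (g : G) • ((1 : G) : G ⧸ H) = _
        rw [MulAction.Quotient.smul_coe, smul_eq_mul, mul_one, QuotientGroup.eq]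
        simpa using H.inv_mem (hPH g.2)
      have hFcard : Nat.card F = 2 := by
        have h1 : 1 ≤ Nat.card F := Nat.card_pos_iff.2 ⟨⟨⟨_, hH⟩⟩, inferInstance⟩
        have h2 : Nat.card F + 19 ≤ 21 := by
          have := Nat.card_le_card_of_injective (Sum.elim (Subtype.val : F → G ⧸ H) pt)
            (Subtype.val_injective.sumElim hptinj fun a b h => hptF b (h ▸ a.2))
          rwa [Nat.card_sum, Nat.card_fin, hcardQ] at this
        rw [hcardQ] at hfx
        unfold Nat.ModEq at hfx
        omega
      have hsurj : Function.Surjective (Sum.elim (Subtype.val : F → G ⧸ H) pt) :=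
        (Function.Injective.bijective_of_nat_card_le
          (Subtype.val_injective.sumElim hptinj fun a b h => hptF b (h ▸ a.2))
          (by rw [Nat.card_sum, Nat.card_fin, hcardQ, hFcard])).2
      have hcom : Commute z x := (Subgroup.mem_centralizer_iff.1 hzC x hxP).symm
      have hzq : z • q = q := by
        obtain ⟨w | a, hw⟩ := hsurj (z • q)
        · exfalso
          refine hq fun g => smul_left_cancel z ?_
          have hgz : z * (g : G) = g * z := (Subgroup.mem_centralizer_iff.1 hzC g g.2).symm
          change z • (g : G) • q = z • q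
          rw [smul_smul, hgz, mul_smul, ← hw]
          exact w.2 g
        · simp only [Sum.elim_inr, pt] at hw
          have h2 : x ^ ((a : ℕ) + (a : ℕ)) • q = q := by
            rw [pow_add, mul_smul, hw, smul_smul, ← (hcom.pow_right (a : ℕ)).eq, mul_smul, hw, smul_smul,
              show z * z = 1 by rw [← pow_two, ← hz, pow_orderOf_eq_one], one_smul]
          have h3 : ((a : ℕ) + (a : ℕ)) % 19 = 0 := hxfix _ (Nat.mod_lt _ (by norm_num))
            (by have hm := pow_mod_orderOf x ((a : ℕ) + (a : ℕ)); rw [hx] at hm; rwa [hm])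
          have ha0 : (a : ℕ) = 0 := by omega
          rw [← hw, ha0, pow_zero, one_smul]
      have hzpt : ∀ a : Fin 19, z • pt a = pt a := fun a => by
        simp only [pt]
        rw [smul_smul, (hcom.pow_right (a : ℕ)).eq, mul_smul, hzq]
      have hz1fix : z • ((1 : G) : G ⧸ H) = ((1 : G) : G ⧸ H) := by
        rw [MulAction.Quotient.smul_coe, smul_eq_mul, mul_one, QuotientGroup.eq]
        simpa using H.inv_mem hzH
      have hzall : ∀ w : G ⧸ H, z • w = w := by
        by_contra hne
        push Not at hne
        obtain ⟨w, hw⟩ := hne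
        have hin : ∀ v, z • v ≠ v → ∃ u : F, (u : G ⧸ H) = v := fun v hv => by
          obtain ⟨u | a, hu⟩ := hsurj v
          · exact ⟨u, hu⟩
          · exact absurd (hu ▸ hzpt a) hv
        obtain ⟨u, rfl⟩ := hin w hw
        obtain ⟨u', hu'⟩ := hin (z • (u : G ⧸ H)) (fun h => hw (smul_left_cancel z h))
        have : Fintype F := Fintype.ofFinite _
        have h3 : ({⟨_, hH⟩, u, u'} : Finset F).card = 3 := by
          have e1 : (⟨_, hH⟩ : F) ≠ u := fun e => hw (by rw [← e]; exact hz1fix)
          have e2 : (⟨_, hH⟩ : F) ≠ u' := fun e => by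
            have e' : z • (u : G ⧸ H) = ((1 : G) : G ⧸ H) := by rw [← hu', ← e]
            exact hw (by rw [e', smul_left_cancel z (e'.trans hz1fix.symm)])
          have e3 : u ≠ u' := fun e => hw (by rw [← hu', ← e])
          rw [Finset.card_insert_of_notMem (by simp [e1, e2]), Finset.card_pair e3]
        have := Finset.card_le_univ ({⟨_, hH⟩, u, u'} : Finset F)
        rw [h3, ← Nat.card_eq_fintype_card, hFcard] at this
        omega
      have : z ∈ φ.ker := Equiv.ext hzall
      rw [hker, Subgroup.mem_bot] at this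
      exact hz1 this
    · -- quotient by z
      set K : Subgroup H := Subgroup.zpowers (⟨z, hzH⟩ : H) with hKdef
      have hKc : K ≤ Subgroup.center H := by
        rw [Subgroup.zpowers_le, Subgroup.mem_center_iff]
        intro g
        exact Subtype.ext (Subgroup.mem_centralizer_singleton_iff.1 g.2)
      have : K.Normal := ⟨fun a ha g => by
        rw [Subgroup.mem_center_iff.1 (hKc ha) g, mul_inv_cancel_right]; exact ha⟩
      have hq := Cfsg.Agent.Lib.Struct4.card_sylow_quotient (P.subtype hPH) K
      rw [Subgroup.relIndex_eq_one.2 (sup_le Subgroup.le_normalizer fun a ha => by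
        rw [Subgroup.mem_normalizer_iff]
        intro w
        rw [← Subgroup.mem_center_iff.1 (hKc ha) w, mul_inv_cancel_right]), mul_one, ← hnHdef, hnH96] at hq
      refine card_sylow_ne_ninetysix ?_ hq.symm
      have hcK : Nat.card K = 2 := by rw [Nat.card_zpowers, Subgroup.orderOf_mk, hz]
      have hX : Nat.card (H ⧸ K) * 2 = 19 * k * 96 := by
        have h := K.card_mul_index
        rw [hcK, hcardH, hnH96, Subgroup.index_eq_card] at h
        rw [mul_comm]; exact h
      rcases hkc with rfl | rfl | rfl | rfl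
      · left; rw [show Nat.card (H ⧸ K) = 1824 by omega]; norm_num
      · left; rw [show Nat.card (H ⧸ K) = 3648 by omega]
      · right; rw [show Nat.card (H ⧸ K) = 5472 by omega]
      · exact absurd rfl hk12'

end main

end Cfsg.Agent.Lib.SmallSimple
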