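import Cfsg.Agent.Lib.Brauer43.Involution
import Cfsg.Agent.Lib.SmallSimple.Basic

/-!
Groups with a self-centralising Sylow subgroup of prime order `p` and normaliser of order `2p`:
a square built from the degrees of the principal block.
-/

set_option autoImplicit false
set_option linter.unusedSectionVars false

namespace Cfsg.Agent.Lib.SmallSimple.DegreeSquare

open Cfsg Cfsg.Agent.Lib Cfsg.Agent.Lib.Char Cfsg.Agent.Lib.DefectOne
open Cfsg.Agent.Lib.Char.UC (C N)
open scoped Classical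

universe u

variable {G : Type u} [Group G] [Fintype G]

/-- The value of a character at an involution is an integer. -/
theorem exists_int_apply {χ : G → ℂ} (h : IsCharacter G χ) {t : G} (ht : t * t = 1) :
    ∃ z : ℤ, χ t = z := by
  obtain ⟨d, ρ, rfl⟩ := h
  obtain ⟨b, μ, h1, -, hc⟩ := exists_eigenbasis ρ t
  have hg1 := hc 1
  simp only [pow_one] at hg1
  have hμ : ∀ i, μ i = 1 ∨ μ i = -1 := by
    intro i
    obtain ⟨k, hk⟩ := orderOf_dvd_of_pow_eq_one (x := t) (n := 2) (by rw [pow_two, ht])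
    have : μ i ^ 2 = 1 := by rw [hk, pow_mul, h1, one_pow]
    exact sq_eq_one_iff.1 this
  refine ⟨∑ i, if μ i = 1 then (1 : ℤ) else -1, ?_⟩
  rw [hg1, Int.cast_sum]
  refine Finset.sum_congr rfl fun i _ => ?_
  rcases hμ i with hi | hi <;> simp [hi]

variable {p : ℕ} [hp : Fact p.Prime]

section Pairs

variable {P : Sylow p G}

theorem centralizer_eq (hP : Nat.card (P : Subgroup G) = p) (hC : C P = (P : Subgroup G)) {x : G}
    (hx : x ∈ (P : Subgroup G)) (hx1 : x ≠ 1) :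
    Subgroup.centralizer ({x} : Set G) = (P : Subgroup G) := by
  rw [star_of_card hP x hx hx1]
  exact hC

theorem inverts (hP : Nat.card (P : Subgroup G) = p) (hC : C P = (P : Subgroup G)) {c : G}
    (hc : c ∈ N P) (hcP : c ∉ (P : Subgroup G)) (hc2 : c * c = 1) {x : G}
    (hx : x ∈ (P : Subgroup G)) : c * x * c⁻¹ = x⁻¹ := by
  have hci : c⁻¹ = c := inv_eq_of_mul_eq_one_right hc2
  have hy : c * x * c⁻¹ ∈ (P : Subgroup G) := (Subgroup.mem_normalizer_iff.1 hc x).1 hx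
  haveI : IsCyclic (P : Subgroup G) := isCyclic_of_prime_card hP
  letI : CommGroup (P : Subgroup G) := IsCyclic.commGroup
  have hcm : x * (c * x * c⁻¹) = c * x * c⁻¹ * x :=
    congrArg Subtype.val (mul_comm (⟨x, hx⟩ : (P : Subgroup G)) ⟨_, hy⟩)
  by_contra hne
  have hne' : x * (c * x * c⁻¹) ≠ 1 := fun e => hne (eq_inv_of_mul_eq_one_right e)
  refine hcP ?_
  rw [← centralizer_eq hP hC (mul_mem hx hy) hne', Subgroup.mem_centralizer_singleton_iff]
  symm
  calc x * (c * x * c⁻¹) * c = c * x * c⁻¹ * x * c := by rw [hcm]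
    _ = c * (x * (c * x * c⁻¹)) := by rw [hci]; simp only [mul_assoc, hc2, mul_one]

/-- A nontrivial element of `P` is a product of `p` pairs of conjugates of an involution inverting it. -/
theorem card_pairs (hP : Nat.card (P : Subgroup G) = p) (hp2 : p ≠ 2) (hC : C P = (P : Subgroup G))
    {t : G} (ht : t ∈ N P) (htP : t ∉ (P : Subgroup G)) (ht2 : t * t = 1) {x : G}
    (hx : x ∈ (P : Subgroup G)) (hx1 : x ≠ 1) :
    (Brauer43.pairsOf t x).card = p := by
  have hinv : ∀ y ∈ (P : Subgroup G), t * y * t⁻¹ = y⁻¹ := fun y hy => inverts hP hC ht htP ht2 hy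
  have hti : t⁻¹ = t := inv_eq_of_mul_eq_one_right ht2
  have hconj : ∀ y ∈ (P : Subgroup G), IsConj (t * y) t := by
    intro y hy
    have hco : (Nat.card (P : Subgroup G)).Coprime 2 := by
      rw [hP]; exact (Nat.coprime_primes hp.out Nat.prime_two).2 hp2
    obtain ⟨⟨z, hz⟩, hzy⟩ := (powCoprime hco).surjective ⟨y, hy⟩
    have hzy' : z ^ 2 = y := congrArg Subtype.val hzy
    refine IsConj.symm (isConj_iff.2 ⟨z⁻¹, ?_⟩)
    calc z⁻¹ * t * z⁻¹⁻¹ = t * ((t⁻¹ * z⁻¹ * t) * z) := by group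
      _ = t * ((t * z⁻¹ * t⁻¹) * z) := by rw [hti]
      _ = t * y := by rw [hinv _ (inv_mem hz), inv_inv, ← pow_two, hzy']
  have hset : Brauer43.pairsOf t x = (Finset.univ : Finset (P : Subgroup G)).image
      (fun y : (P : Subgroup G) => (t * (y : G), t * ((y : G) * x))) := by
    ext ⟨a, b⟩
    simp only [Brauer43.pairsOf, Finset.mem_filter, Finset.mem_univ, true_and, Finset.mem_image]
    constructor
    · rintro ⟨ha, hb, hab⟩
      have hsq : ∀ c, IsConj c t → c * c = 1 := fun c hc => by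
        obtain ⟨g, hg⟩ := isConj_iff.1 hc.symm
        rw [← hg, conj_mul, ht2, mul_one, mul_inv_cancel]
      have hai : a⁻¹ = a := inv_eq_of_mul_eq_one_right (hsq a ha)
      have hbi : b⁻¹ = b := inv_eq_of_mul_eq_one_right (hsq b hb)
      have hax : a * x * a⁻¹ = x⁻¹ := by
        rw [← hab, mul_inv_rev, hbi, hai, ← mul_assoc a a b, hsq a ha, one_mul]
      have hy : t⁻¹ * a ∈ (P : Subgroup G) := by
        rw [← centralizer_eq hP hC hx hx1, Subgroup.mem_centralizer_singleton_iff]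
        calc t⁻¹ * a * x = t⁻¹ * (a * x * a⁻¹) * t * (t⁻¹ * a) := by group
          _ = (t * x⁻¹ * t⁻¹) * (t⁻¹ * a) := by rw [hax, hti]
          _ = x * (t⁻¹ * a) := by rw [hinv _ (inv_mem hx), inv_inv]
      refine ⟨⟨_, hy⟩, Prod.ext (mul_inv_cancel_left t a) ?_⟩
      show t * (t⁻¹ * a * x) = b
      rw [← mul_assoc, mul_inv_cancel_left, ← hab, ← mul_assoc, hsq a ha, one_mul]
    · rintro ⟨⟨y, hy⟩, heq⟩
      simp only [Prod.mk.injEq] at heq
      obtain ⟨rfl, rfl⟩ := heq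
      refine ⟨hconj y hy, hconj _ (mul_mem hy hx), ?_⟩
      calc t * y * (t * (y * x)) = (t * y * t⁻¹) * (y * x) := by rw [hti, mul_assoc (t * y)]
        _ = x := by rw [hinv y hy, inv_mul_cancel_left]
  rw [hset, Finset.card_image_of_injective _ fun a b h => Subtype.ext
    (mul_left_cancel (congrArg Prod.fst h)), Finset.card_univ, ← Nat.card_eq_fintype_card, hP]

end Pairs

/-- In a perfect group with a self-centralising subgroup of prime order `p ≥ 5` and normaliser of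
order `2p` the degrees `f`, `D` of the principal block make `p|G|fD` a square. -/
theorem exists_square (hperf : commutator G = ⊤) (P : Sylow p G) (hp5 : 5 ≤ p)
    (hP : Nat.card (P : Subgroup G) = p) (hC : C P = (P : Subgroup G))
    (hN : Nat.card (N P) = p * 2) :
    ∃ (f D : ℕ) (w : ℤ), f ∣ Nat.card G ∧ D ∣ Nat.card G ∧ 1 < f ∧
      (p - 1) / 2 * D ^ 2 + f ^ 2 + 1 ≤ Nat.card G ∧
      ((D = f + 1 ∧ (p : ℤ) ∣ (f : ℤ) - 1) ∨ (f = D + 1 ∧ (p : ℤ) ∣ (f : ℤ) + 1)) ∧
      ((p * Nat.card G * f * D : ℕ) : ℤ) = w ^ 2 := by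
  obtain ⟨M, hM⟩ := Block.exists_isPModular (p := p) hp.out
  haveI := hM.2.1
  obtain ⟨-, Z, Y, sgn, ε, hB, hd, hZ, hY, hε, hZv, hYv, hYr, hrel⟩ := principal_structure hM hP
  have he : (C P).relIndex (N P) = 2 := by
    have h := ((C P).subgroupOf (N P)).card_mul_index
    rw [Nat.card_congr (Subgroup.subgroupOfEquivOfLe (UC.C_le_N P)).toEquiv, hC, hP, hN] at h
    rw [Subgroup.relIndex, hC]
    exact Nat.eq_of_mul_eq_mul_left hp.out.pos h
  rw [he] at hZ hY hYv
  have hp2 : p ≠ 2 := by omega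
  obtain ⟨x₀, hx₀, hx₀1⟩ := exists_mem_ne_one (P := P) hP
  -- the trivial character is not exceptional
  have honeB : Block.oneIrr G ∈ principalBlock M G := Block.oneIrr_mem
  rw [hB] at honeB
  have honeZ : Block.oneIrr G ∈ Z := by
    refine honeB.resolve_right fun hY' => ?_
    have h := Int.modEq_iff_dvd.1 (hYv _ hY')
    rw [show charDegree (Block.oneIrr G : G → ℂ) = 1 from charDegree_one] at h
    rcases hε with rfl | rfl <;> push_cast at h <;> have h' := Int.natAbs_dvd_natAbs.2 h <;>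
      norm_num at h' <;> first | omega | (have := Nat.le_of_dvd (by norm_num) h'; omega)
  obtain ⟨χ, hχone, hZeq⟩ : ∃ χ, χ ≠ Block.oneIrr G ∧ Z = {Block.oneIrr G, χ} := by
    obtain ⟨a, b, hab, rfl⟩ := Finset.card_eq_two.1 hZ
    rcases Finset.mem_insert.1 honeZ with h | h
    · exact ⟨b, h ▸ hab.symm, by rw [h]⟩
    · rw [Finset.mem_singleton] at h
      exact ⟨a, h ▸ hab, by rw [h, Finset.pair_comm]⟩
  have hχZ : χ ∈ Z := by rw [hZeq]; simp
  have hval : ∀ ξ ∈ Z, ∀ x ∈ (P : Subgroup G), x ≠ 1 → (ξ : G → ℂ) x = (sgn ξ : ℂ) := by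
    intro ξ hξ x hx hx1
    have := (hZv ξ hξ).2.2 x hx hx1 1 (one_mem _) (by rw [orderOf_one]; exact hp.out.not_dvd_one)
    rwa [mul_one] at this
  have hs1 : sgn (Block.oneIrr G) = 1 := by
    have := hval _ honeZ x₀ hx₀ hx₀1
    rw [Block.oneIrr_apply] at this
    exact_mod_cast this.symm
  obtain ⟨hs, hcongr, -⟩ := hZv χ hχZ
  generalize hsdef : sgn χ = s at hs hcongr
  set f := charDegree (χ : G → ℂ) with hfdef
  have hχ1 : (χ : G → ℂ) 1 = (f : ℂ) := apply_one_eq_charDegree (isCharacter_of_isIrr χ.2)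
  have hf1 : 1 < f := by
    have h0 : 0 < f := charDegree_pos χ.2
    refine Nat.lt_of_le_of_ne h0 fun h1 => hχone ?_
    obtain ⟨l, hl⟩ := exists_hom_of_degree_one (isCharacter_of_isIrr χ.2)
      (by rw [hχ1, ← h1, Nat.cast_one])
    refine Subtype.ext (funext fun g => ?_)
    rw [hl g, Brauer43.perfect_hom_trivial hperf l g, Units.val_one, Block.oneIrr_apply]
  -- the involution
  haveI : Fact (Nat.Prime 2) := ⟨Nat.prime_two⟩
  obtain ⟨t', ht'⟩ := exists_prime_orderOf_dvd_card' (G := N P) 2 (by rw [hN]; exact dvd_mul_left 2 p)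
  set t : G := (t' : G) with htdef
  have ht : t ∈ N P := t'.2
  have hto : orderOf t = 2 := by rw [htdef, Subgroup.orderOf_coe, ht']
  have ht2 : t * t = 1 := by rw [← pow_two, ← hto, pow_orderOf_eq_one]
  have htP : t ∉ (P : Subgroup G) := fun h => by
    have h' := (P : Subgroup G).orderOf_dvd_natCard h
    rw [hto, hP] at h'
    exact hp2 ((Nat.prime_dvd_prime_iff_eq Nat.prime_two hp.out).1 h').symm
  have htreg : ¬ p ∣ orderOf t := by
    rw [hto]; intro h
    exact hp2 ((Nat.prime_dvd_prime_iff_eq hp.out Nat.prime_two).1 h)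
  obtain ⟨u, hu⟩ := exists_int_apply (isCharacter_of_isIrr χ.2) ht2
  -- the exceptional characters
  have hYne : Y.Nonempty := Finset.card_pos.1 (hY ▸ Nat.div_pos (by omega) (by norm_num))
  obtain ⟨ψ₀, hψ₀⟩ := hYne
  set D := charDegree (ψ₀ : G → ℂ) with hDdef
  have hdeg : ∀ ψ ∈ Y, (ψ : G → ℂ) 1 = (D : ℂ) := by
    intro ψ hψ
    rw [hYr ψ hψ ψ₀ hψ₀ 1 (by rw [orderOf_one]; exact hp.out.not_dvd_one),
      apply_one_eq_charDegree (isCharacter_of_isIrr ψ₀.2)]
  have hone : (ε : ℂ) * (D : ℂ) = 1 + (s : ℂ) * f := by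
    have h := hrel ψ₀ hψ₀ 1 (by rw [orderOf_one]; exact hp.out.not_dvd_one)
    rw [hdeg ψ₀ hψ₀, hZeq, Finset.sum_pair hχone.symm, hs1, hsdef, Block.oneIrr_apply, hχ1] at h
    rw [h]; push_cast; ring
  have hψt : ∀ ψ ∈ Y, (ψ : G → ℂ) t = (ε : ℂ) * (1 + (s : ℂ) * u) := by
    intro ψ hψ
    have h := hrel ψ hψ t htreg
    rw [hZeq, Finset.sum_pair hχone.symm, hs1, hsdef, Block.oneIrr_apply, hu] at h
    have hεε : (ε : ℂ) * ε = 1 := by rcases hε with rfl | rfl <;> norm_num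
    linear_combination (ε : ℂ) * h - (ψ : G → ℂ) t * hεε
  -- characters outside the block vanish on the singular elements
  have hout : ∀ X, X ∉ Z → X ∉ Y → ∀ x ∈ (P : Subgroup G), x ≠ 1 → (X : G → ℂ) x = 0 := by
    intro X hXZ hXY x hx hx1
    haveI := Fintype.ofFinite (C P)
    have hCP : ∀ c : C P, (c : G) ∈ (P : Subgroup G) := fun c => by rw [← hC]; exact c.2
    have hTh : ∀ θ : Th P, θ = oneTh P := by
      intro θ
      refine Subtype.ext ?_
      by_contra hne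
      have h := classInner_irr_ne θ.1.2 (oneTh P).1.2 (fun h => hne (Subtype.ext h))
      rw [show (θ.1 : C P → ℂ) = (θ.1 : C P → ℂ) 1 • ((oneTh P).1 : C P → ℂ) from
        funext fun c => by simpa [oneTh] using θ.2 c (hCP c), classInner_smul_left,
        classInner_irr_self (oneTh P).1.2, mul_one] at h
      exact irr_degree_ne_zero θ.1.2 h
    have hXB : X ∉ principalBlock M G := by rw [hB]; simp [hXZ, hXY]
    have h := apply_eq_sum_S hP X ⟨x, hx⟩ (y := 1) not_dvd_one'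
    rw [OneMemClass.coe_one, mul_one] at h
    rw [h]
    refine Finset.sum_eq_zero fun θ _ => ?_
    rw [hTh θ, S_eq_zero hM hP (oneTh P) (induced_principal hM hP) hXB
      (fun h => hx1 (congrArg Subtype.val h)), zero_mul]
  -- sums over the irreducible characters
  have hsplit : ∀ F : IrrCharacter G → ℂ, (∀ X, X ∉ Z → X ∉ Y → F X = 0) →
      ∑ X, F X = F (Block.oneIrr G) + F χ + ∑ ψ ∈ Y, F ψ := by
    intro F hF
    rw [← Finset.sum_subset (Finset.subset_univ (Z ∪ Y)) (fun X _ hX => hF X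
      (fun h => hX (Finset.mem_union_left _ h)) (fun h => hX (Finset.mem_union_right _ h))),
      Finset.sum_union hd, hZeq, Finset.sum_pair hχone.symm]
  set x' := x₀⁻¹ with hx'def
  have hx' : x' ∈ (P : Subgroup G) := inv_mem hx₀
  have hx'1 : x' ≠ 1 := inv_ne_one.2 hx₀1
  have hD0 : (D : ℂ) ≠ 0 := Nat.cast_ne_zero.2 (charDegree_pos ψ₀.2).ne'
  have hf0 : (f : ℂ) ≠ 0 := Nat.cast_ne_zero.2 (by omega)
  have hYx : ∑ ψ ∈ Y, (ψ : G → ℂ) x' = -(ε : ℂ) := by
    have h := sum_degree_mul (G := G) x'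
    rw [if_neg hx'1, hsplit _ (fun X h1 h2 => by rw [hout X h1 h2 x' hx' hx'1, mul_zero]),
      Block.oneIrr_apply, Block.oneIrr_apply, hχ1, hval χ hχZ x' hx' hx'1, hsdef,
      Finset.sum_congr rfl (fun ψ hψ => by rw [hdeg ψ hψ]), ← Finset.mul_sum] at h
    refine mul_left_cancel₀ hD0 ?_
    linear_combination h + hone
  set k := (Subgroup.centralizer ({t} : Set G)).index with hkdef
  have hcnt := Brauer43.card_pairsOf t x₀
  have hsumt : ∑ ψ ∈ Y, ((k : ℂ) * (ψ : G → ℂ) t) ^ 2 * (ψ : G → ℂ) x' / (ψ : G → ℂ) 1 =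
      ((k : ℂ) * ((ε : ℂ) * (1 + (s : ℂ) * u))) ^ 2 / (D : ℂ) * ∑ ψ ∈ Y, (ψ : G → ℂ) x' := by
    rw [Finset.mul_sum]
    refine Finset.sum_congr rfl fun ψ hψ => ?_
    rw [hψt ψ hψ, hdeg ψ hψ]; ring
  rw [card_pairs hP hp2 hC ht htP ht2 hx₀ hx₀1, ← hx'def, ← hkdef,
    hsplit _ (fun X h1 h2 => by rw [hout X h1 h2 x' hx' hx'1, mul_zero, zero_div]),
    Block.oneIrr_apply, Block.oneIrr_apply, Block.oneIrr_apply, hu, hχ1,
    hval χ hχZ x' hx' hx'1, hsdef, hsumt, hYx] at hcnt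
  have hεε : (ε : ℂ) * ε = 1 := by rcases hε with rfl | rfl <;> norm_num
  have hss : (s : ℂ) * s = 1 := by rcases hs with rfl | rfl <;> norm_num
  have hkey : (ε : ℂ) * s * ((Nat.card G : ℂ) * p * f * D) = ((k : ℂ) * ((f : ℂ) - u)) ^ 2 := by
    have h1 : (Nat.card G : ℂ) * p * f * D = (k : ℂ) ^ 2 * (f * D + (u : ℂ) ^ 2 * s * D
        - ε * (1 + (s : ℂ) * u) ^ 2 * f) := by
      rw [hcnt]
      field_simp
      linear_combination (-((k : ℂ) ^ 2 * (1 + (s : ℂ) * u) ^ 2 * f * ε)) * hεε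
    rw [h1]
    linear_combination ((s : ℂ) * (k : ℂ) ^ 2 * ((f : ℂ) + (u : ℂ) ^ 2 * s)) * hone
      - ((s : ℂ) * (k : ℂ) ^ 2 * (1 + (s : ℂ) * u) ^ 2 * f) * hεε
      + ((k : ℂ) ^ 2 * ((f : ℂ) ^ 2 - 2 * f * u + (u : ℂ) ^ 2)) * hss
  have hkey' : ε * s * ((Nat.card G * p * f * D : ℕ) : ℤ) = ((k : ℤ) * ((f : ℤ) - u)) ^ 2 := by
    have : ((ε * s * ((Nat.card G * p * f * D : ℕ) : ℤ) : ℤ) : ℂ) =
        ((((k : ℤ) * ((f : ℤ) - u)) ^ 2 : ℤ) : ℂ) := by push_cast; exact hkey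
    exact_mod_cast this
  have hone' : ε * (D : ℤ) = 1 + s * f := by exact_mod_cast hone
  have hes : ε = s := by
    have hpos : (0 : ℤ) < ((Nat.card G * p * f * D : ℕ) : ℤ) := by
      have := charDegree_pos ψ₀.2
      exact_mod_cast Nat.mul_pos (Nat.mul_pos (Nat.mul_pos Nat.card_pos hp.out.pos) (by omega)) this
    have hnn := sq_nonneg ((k : ℤ) * ((f : ℤ) - u))
    rcases hε with rfl | rfl <;> rcases hs with rfl | rfl <;> first | rfl | linarith
  refine ⟨f, D, (k : ℤ) * ((f : ℤ) - u), charDegree_dvd_card χ.2, charDegree_dvd_card ψ₀.2,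
    hf1, ?_, ?_, ?_⟩
  · have h := sum_charDegree_sq (G := G)
    have hle : ∑ X ∈ Z ∪ Y, charDegree (X : G → ℂ) ^ 2 ≤ Nat.card G :=
      h ▸ Finset.sum_le_sum_of_subset_of_nonneg (Finset.subset_univ _) fun _ _ _ => Nat.zero_le _
    rw [Finset.sum_union hd, hZeq, Finset.sum_pair hχone.symm,
      Finset.sum_congr rfl (g := fun _ => D ^ 2) (fun ψ hψ => by
        congr 1
        exact_mod_cast (apply_one_eq_charDegree (isCharacter_of_isIrr ψ.2)).symm.trans (hdeg ψ hψ)),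
      Finset.sum_const, hY, smul_eq_mul,
      show charDegree (Block.oneIrr G : G → ℂ) = 1 from charDegree_one] at hle
    linarith
  · have hdvd : (p : ℤ) ∣ (f : ℤ) - s := Int.modEq_iff_dvd.1 hcongr.symm
    subst hes
    rcases hε with rfl | rfl
    · exact Or.inl ⟨by omega, hdvd⟩
    · exact Or.inr ⟨by omega, by simpa using hdvd⟩
  · subst hes
    rw [← hkey', show ε * ε = 1 by rcases hε with rfl | rfl <;> norm_num, one_mul]
    push_cast; ring

end Cfsg.Agent.Lib.SmallSimple.DegreeSquare
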