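import Cfsg.Agent.Lib.SmallSimple.Basic

/-!
A simple group of order 168 acts on its eight Sylow 7-subgroups as one fixed permutation group,
so there is only one such group.
-/

set_option autoImplicit false

namespace Cfsg.Agent.Lib.SmallSimple

open scoped Pointwise

/-- The eight points. -/
abbrev Line7 := Option (ZMod 7)

instance : Fact (Nat.Prime 7) := ⟨by norm_num⟩

/-- `x ↦ x + 1`. -/
def shift7 : Equiv.Perm Line7 where
  toFun y := y.map (· + 1)
  invFun y := y.map (· - 1)
  left_inv := by decide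
  right_inv := by decide

/-- `x ↦ 2x`. -/
def dbl7 : Equiv.Perm Line7 where
  toFun y := y.map (2 * ·)
  invFun y := y.map (4 * ·)
  left_inv := by decide
  right_inv := by decide

/-- `x ↦ -1/x`. -/
def inv7 : Equiv.Perm Line7 where
  toFun y := y.elim (some 0) ![none, some 6, some 3, some 2, some 5, some 4, some 1]
  invFun y := y.elim (some 0) ![none, some 6, some 3, some 2, some 5, some 4, some 1]
  left_inv := by decide
  right_inv := by decide

/-- The permutation group of order 168. -/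
def lineGroup : Subgroup (Equiv.Perm Line7) := Subgroup.closure {shift7, dbl7, inv7}

variable {G : Type*} [Group G]

lemma pow_eq_of_cast_eq {t : G} {n : ℕ} (ht : orderOf t = n) {a b : ℕ} (h : (a : ZMod n) = b) :
    t ^ a = t ^ b := by
  rw [pow_eq_pow_iff_modEq, ht]
  exact (ZMod.natCast_eq_natCast_iff a b n).1 h

lemma zmod3_cases : ∀ z : ZMod 3, z = 0 ∨ z = 1 ∨ z = 2 := by decide

variable [Finite G] [IsSimpleGroup G] (hcard : Nat.card G = 168)
include hcard

lemma not_comm_168 : ¬ IsMulCommutative G := not_isMulCommutative_of_card (by rw [hcard]; norm_num)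

lemma card_sylow_seven : Nat.card (Sylow 7 G) = 8 := by
  have hG := not_comm_168 hcard
  obtain ⟨P⟩ : Nonempty (Sylow 7 G) := inferInstance
  obtain ⟨h1, h2, -⟩ := card_sylow_facts (p := 7) hG (by rw [hcard]; decide)
  have hd := P.card_dvd_index
  have hP := card_sylow_subgroup P (k := 1) (m := 24) (by rw [hcard]; decide) (by decide)
  have hm := (P : Subgroup G).card_mul_index
  rw [hP, hcard] at hm
  rw [show (P : Subgroup G).index = 24 by omega] at hd
  have := Nat.le_of_dvd (by norm_num) hd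
  interval_cases h : Nat.card (Sylow 7 G) <;> omega

lemma card_sylow_stab (Q : Sylow 7 G) :
    Nat.card (MulAction.stabilizer G Q) = 21 := by
  rw [Sylow.stabilizer_eq_normalizer]
  change Nat.card (Subgroup.normalizer ((Q : Subgroup G) : Set G)) = 21
  have h := (Subgroup.normalizer ((Q : Subgroup G) : Set G)).card_mul_index
  rw [← card_sylow_eq_index Q, card_sylow_seven hcard, hcard] at h
  omega

lemma eq_one_of_stab {Q : Sylow 7 G} {x : G} (hx : x • Q = Q) {j : ℕ} (hj : x ^ 2 ^ j = 1) : x = 1 := by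
  have h1 : orderOf x ∣ 21 := card_sylow_stab hcard Q ▸
    (Subgroup.orderOf_mk x (show x ∈ MulAction.stabilizer G Q from hx) ▸ orderOf_dvd_natCard _)
  have h2 : orderOf x ∣ 2 ^ j := orderOf_dvd_of_pow_eq_one hj
  exact orderOf_eq_one_iff.1 (Nat.eq_one_of_dvd_coprimes
    (Nat.Coprime.pow_right j (by decide : Nat.Coprime 21 2)) h1 h2)

lemma not_dvd_factorial {H : Subgroup G} (hH : H ≠ ⊤) : 8 ≤ H.index ∨ H.index = 7 := by
  by_contra h
  push Not at h
  have hd := two_mul_card_dvd_factorial (not_comm_168 hcard) H hH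
  rw [hcard] at hd
  obtain ⟨h1, h2⟩ := h
  have h3 : H.index ≤ 6 := by omega
  have := hd.trans (Nat.factorial_dvd_factorial h3)
  revert this
  decide

/-- The points can be labelled so that the group becomes `lineGroup`. -/
theorem exists_line_embedding :
    ∃ φ : G →* Equiv.Perm Line7, Function.Injective φ ∧ φ.range = lineGroup := by
  classical
  have := Fact.mk (show Nat.Prime 3 by norm_num)
  have hG := not_comm_168 hcard
  obtain ⟨P⟩ : Nonempty (Sylow 7 G) := inferInstance
  have hPc : Nat.card (P : Subgroup G) = 7 :=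
    card_sylow_subgroup P (k := 1) (m := 24) (by rw [hcard]; decide) (by decide)
  obtain ⟨t, ht⟩ := exists_prime_orderOf_dvd_card' (G := (P : Subgroup G)) 7 (by rw [hPc])
  obtain ⟨t, htP⟩ := t
  rw [Subgroup.orderOf_mk] at ht
  have hzt : Subgroup.zpowers t = (P : Subgroup G) :=
    Subgroup.eq_of_le_of_card_ge (Subgroup.zpowers_le.2 htP) (by rw [hPc, Nat.card_zpowers, ht])
  have hN : Nat.card (Subgroup.normalizer ((P : Subgroup G) : Set G)) = 21 := by
    have h := card_sylow_stab hcard P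
    rwa [Sylow.stabilizer_eq_normalizer] at h
  obtain ⟨h', hh'⟩ := exists_prime_orderOf_dvd_card' (G := Subgroup.normalizer ((P : Subgroup G) : Set G)) 3
    (by rw [hN]; decide)
  obtain ⟨h', hh'N⟩ := h'
  rw [Subgroup.orderOf_mk] at hh'
  -- an element of order three doubling `t`
  have key : ∀ k : G, k ∈ Subgroup.normalizer ((P : Subgroup G) : Set G) →
      ∃ a : ℕ, k * t * k⁻¹ = t ^ a := fun k hk => by
    have hm : k * t * k⁻¹ ∈ (P : Subgroup G) := (Subgroup.mem_normalizer_iff.1 hk t).1 htP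
    rw [← hzt, ← mem_powers_iff_mem_zpowers] at hm
    obtain ⟨a, ha⟩ := hm
    exact ⟨a, ha.symm⟩
  obtain ⟨a, ha⟩ := key h' hh'N
  have conj3 : ∀ (k : G) (b : ℕ), k * t * k⁻¹ = t ^ b → ∀ m : ℕ, k ^ m * t * (k ^ m)⁻¹ = t ^ b ^ m := by
    intro k b hb m
    induction m with
    | zero => simp
    | succ m ih =>
      calc k ^ (m + 1) * t * (k ^ (m + 1))⁻¹ = k * (k ^ m * t * (k ^ m)⁻¹) * k⁻¹ := by
            rw [pow_succ']; group
        _ = t ^ b ^ (m + 1) := by rw [ih, ← conj_pow, hb, ← pow_mul, pow_succ']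
  have ha3 : ((a : ZMod 7)) ^ 3 = 1 := by
    have h := conj3 h' a ha 3
    rw [← hh', pow_orderOf_eq_one, one_mul, inv_one, mul_one] at h
    have h' : t ^ 1 = t ^ a ^ 3 := by rw [pow_one]; rwa [hh'] at h
    rw [pow_eq_pow_iff_modEq, ht, ← ZMod.natCast_eq_natCast_iff] at h'
    exact_mod_cast h'.symm
  have ha1 : (a : ZMod 7) ≠ 1 := by
    intro h1
    have hcomm : h' * t * h'⁻¹ = t := by
      rw [ha, pow_eq_of_cast_eq ht (show (a : ZMod 7) = ((1 : ℕ) : ZMod 7) by simpa using h1), pow_one]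
    refine not_normalizer_le_centralizer hG P (by rw [hcard]; decide) ?_
    have hle : Subgroup.zpowers t ⊔ Subgroup.zpowers h' ≤
        Subgroup.centralizer ((P : Subgroup G) : Set G) := by
      rw [← hzt]
      refine sup_le ?_ ?_ <;> rw [Subgroup.zpowers_le, Subgroup.mem_centralizer_iff] <;>
        rintro _ ⟨z, rfl⟩
      · exact (Commute.zpow_left (Commute.refl t) z).eq
      · exact (Commute.zpow_left (show Commute t h' from (mul_inv_eq_iff_eq_mul.1 hcomm).symm) z).eq
    refine le_trans (le_of_eq ?_) hle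
    refine (Subgroup.eq_of_le_of_card_ge (sup_le (hzt ▸ Subgroup.le_normalizer)
      (Subgroup.zpowers_le.2 hh'N)) ?_).symm
    rw [hN]
    refine Nat.le_of_dvd Nat.card_pos ?_
    have d7 := Subgroup.card_dvd_of_le (le_sup_left : Subgroup.zpowers t ≤ Subgroup.zpowers t ⊔ Subgroup.zpowers h')
    have d3 := Subgroup.card_dvd_of_le (le_sup_right : Subgroup.zpowers h' ≤ Subgroup.zpowers t ⊔ Subgroup.zpowers h')
    rw [Nat.card_zpowers, ht] at d7
    rw [Nat.card_zpowers, hh'] at d3
    exact Nat.Coprime.mul_dvd_of_dvd_of_dvd (by decide : Nat.Coprime 7 3) d7 d3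
  obtain ⟨h, hh, hhN, hth⟩ : ∃ h : G, orderOf h = 3 ∧
      h ∈ Subgroup.normalizer ((P : Subgroup G) : Set G) ∧ h * t * h⁻¹ = t ^ 2 := by
    have hcases : ∀ z : ZMod 7, z ^ 3 = 1 → z ≠ 1 → z = 2 ∨ z = 4 := by decide
    rcases hcases _ ha3 ha1 with h2 | h4
    · exact ⟨h', hh', hh'N, by
        rw [ha, pow_eq_of_cast_eq ht (show (a : ZMod 7) = ((2 : ℕ) : ZMod 7) by simpa using h2)]⟩
    · refine ⟨h' ^ 2, ?_, pow_mem hh'N 2, ?_⟩
      · rw [orderOf_pow, hh']; rfl
      · rw [conj3 h' a ha 2]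
        refine pow_eq_of_cast_eq ht ?_
        push_cast
        rw [h4]; rfl
  have hh3 : h ^ 3 = 1 := hh ▸ pow_orderOf_eq_one h
  -- labels
  have hfixP : ∀ {k}, k ∈ Subgroup.normalizer ((P : Subgroup G) : Set G) → k • P = P := fun hk =>
    Sylow.smul_eq_iff_mem_normalizer.2 hk
  have htN : t ∈ Subgroup.normalizer ((P : Subgroup G) : Set G) := Subgroup.le_normalizer htP
  have hreg : ∀ Q : Sylow 7 G, Q ≠ P → ∀ x y : ZMod 7, t ^ x.val • Q = t ^ y.val • Q → x = y := by
    intro Q hQ x y e
    by_contra hne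
    have e' : t ^ (x - y).val • Q = Q := by
      have : t ^ x.val = t ^ y.val * t ^ (x - y).val := by
        rw [← pow_add]; exact pow_eq_of_cast_eq ht (by push_cast [ZMod.natCast_val, ZMod.cast_id']; simp)
      rw [this, mul_smul] at e
      exact MulAction.injective (t ^ y.val) e
    -- then `t` fixes `Q`
    set z := x - y with hz
    have hz0 : z ≠ 0 := sub_ne_zero.2 hne
    have htQ : t • Q = Q := by
      have hmem : t ^ z.val ∈ MulAction.stabilizer G Q := e'
      have ht1 : t = (t ^ z.val) ^ (z⁻¹).val := by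
        rw [← pow_mul]
        conv_lhs => rw [← pow_one t]
        refine pow_eq_of_cast_eq ht ?_
        push_cast [ZMod.natCast_val, ZMod.cast_id']
        simp [hz0]
      rw [ht1]
      exact pow_mem hmem _
    refine hQ ?_
    have hsub : Subgroup.zpowers t ≤ (Q : Subgroup G) := by
      rw [hzt]
      have hle : (P : Subgroup G) ≤ Subgroup.normalizer ((Q : Subgroup G) : Set G) :=
        hzt ▸ Subgroup.zpowers_le.2 (Sylow.smul_eq_iff_mem_normalizer.1 htQ)
      have h' := P.isPGroup'.inf_normalizer_sylow Q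
      change (P : Subgroup G) ⊓ Subgroup.normalizer ((Q : Subgroup G) : Set G) = _ at h'
      rw [inf_eq_left.2 hle] at h'
      exact h'.le.trans inf_le_right
    refine Sylow.ext (Subgroup.eq_of_le_of_card_ge (hzt ▸ hsub) (le_of_eq ?_)).symm
    rw [hPc, card_sylow_subgroup Q (k := 1) (m := 24) (by rw [hcard]; decide) (by decide)]
    rfl
  have htneP : ∀ Q : Sylow 7 G, Q ≠ P → ∀ x : ZMod 7, t ^ x.val • Q ≠ P := fun Q hQ x e => hQ
    (MulAction.injective (t ^ x.val) (e.trans (hfixP (pow_mem htN x.val)).symm))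
  have hsurj : ∀ Q : Sylow 7 G, Q ≠ P → ∀ R, R ≠ P → ∃ x : ZMod 7, t ^ x.val • Q = R := by
    intro Q hQ R hR
    let f : Line7 → Sylow 7 G := fun y => y.elim P fun x => t ^ x.val • Q
    have hf : Function.Injective f := by
      rintro (_ | x) (_ | y) e
      · rfl
      · exact absurd e.symm (htneP Q hQ y)
      · exact absurd e (htneP Q hQ x)
      · exact congrArg some (hreg Q hQ x y e)
    obtain ⟨y, hy⟩ := ((Nat.bijective_iff_injective_and_card f).2 ⟨hf, by
      rw [card_sylow_seven hcard]; simp⟩).2 R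
    rcases y with _ | x
    · exact absurd hy.symm hR
    · exact ⟨x, hy⟩
  have hht : ∀ x : ZMod 7, h * t ^ x.val = t ^ (2 * x).val * h := by
    intro x
    rw [← mul_inv_eq_iff_eq_mul, ← conj_pow, hth, ← pow_mul]
    exact pow_eq_of_cast_eq ht (by push_cast [ZMod.natCast_val, ZMod.cast_id']; simp)
  obtain ⟨Q₀, hQ₀⟩ : ∃ Q₀ : Sylow 7 G, Q₀ ≠ P := by
    by_contra! hall
    have : Nat.card (Sylow 7 G) ≤ 1 := Finite.card_le_one_iff_subsingleton.2
      ⟨fun a b => (hall a).trans (hall b).symm⟩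
    rw [card_sylow_seven hcard] at this
    omega
  obtain ⟨b, hb⟩ := hsurj Q₀ hQ₀ (h • Q₀) fun e => hQ₀
    (MulAction.injective h (e.trans (hfixP hhN).symm))
  set Q := t ^ (-b).val • Q₀ with hQdef
  have hQ : Q ≠ P := htneP Q₀ hQ₀ _
  have hhQ : h • Q = Q := by
    rw [hQdef, ← mul_smul, hht, mul_smul, ← hb, ← mul_smul, ← pow_add]
    congr 1
    exact pow_eq_of_cast_eq ht (by push_cast [ZMod.natCast_val, ZMod.cast_id', id]; ring)
  let f : Line7 → Sylow 7 G := fun y => y.elim P fun x => t ^ x.val • Q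
  have hf : Function.Bijective f := by
    refine (Nat.bijective_iff_injective_and_card f).2 ⟨?_, by rw [card_sylow_seven hcard]; simp⟩
    rintro (_ | x) (_ | y) e
    · rfl
    · exact absurd e.symm (htneP Q hQ y)
    · exact absurd e (htneP Q hQ x)
    · exact congrArg some (hreg Q hQ x y e)
  let e := Equiv.ofBijective f hf
  let φ : G →* Equiv.Perm Line7 :=
    e.symm.permCongrHom.toMonoidHom.comp (MulAction.toPermHom G (Sylow 7 G))
  have hφ : ∀ (k : G) (y z : Line7), k • f y = f z → φ k y = z := fun k y z hk => by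
    change e.symm (k • e y) = z
    rw [Equiv.symm_apply_eq]
    exact hk
  have hφt : φ t = shift7 := Equiv.ext fun y => hφ t y _ (by
    rcases y with _ | x
    · exact hfixP htN
    · change t • (t ^ x.val • Q) = t ^ (x + 1).val • Q
      rw [← mul_smul, ← pow_succ']
      congr 1
      exact pow_eq_of_cast_eq ht (by push_cast [ZMod.natCast_val, ZMod.cast_id']; rfl))
  have hφh : φ h = dbl7 := Equiv.ext fun y => hφ h y _ (by
    rcases y with _ | x
    · exact hfixP hhN
    · change h • (t ^ x.val • Q) = t ^ (2 * x).val • Q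
      rw [← mul_smul, hht, mul_smul, hhQ])
  have hinj : Function.Injective φ := by
    rw [← MonoidHom.ker_eq_bot_iff]
    refine (inferInstance : φ.ker.Normal).eq_bot_or_eq_top.resolve_right fun htop => ?_
    have h1 : φ t = 1 := MonoidHom.mem_ker.1 (htop ▸ Subgroup.mem_top t)
    rw [hφt] at h1
    exact absurd (congrArg (fun p : Equiv.Perm Line7 => p (some 0)) h1) (by decide)
  -- an element inverting `h`
  obtain ⟨g, hg2, hgh⟩ : ∃ g : G, (∃ j, g ^ 2 ^ j = 1) ∧ g * h * g⁻¹ = h ^ 2 := by
    obtain ⟨R, hR⟩ := (IsPGroup.of_card (p := 3) (n := 1) (G := Subgroup.zpowers h)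
      (by rw [Nat.card_zpowers, hh]; rfl)).exists_le_sylow
    have hRh : (R : Subgroup G) = Subgroup.zpowers h :=
      (Subgroup.eq_of_le_of_card_ge hR (by
        rw [card_sylow_subgroup R (k := 1) (m := 56) (by rw [hcard]; decide) (by decide),
          Nat.card_zpowers, hh]; rfl)).symm
    obtain ⟨g, hgN, hgC⟩ := SetLike.not_le_iff_exists.1
      (not_normalizer_le_centralizer hG R (by rw [hcard]; decide))
    rw [hRh] at hgN hgC
    have hm : g * h * g⁻¹ ∈ Subgroup.zpowers h :=
      (Subgroup.mem_normalizer_iff.1 hgN h).1 (Subgroup.mem_zpowers h)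
    rw [← mem_powers_iff_mem_zpowers] at hm
    obtain ⟨n, hn : h ^ n = g * h * g⁻¹⟩ := hm
    have hn' : (n : ZMod 3) = 2 := by
      have hz : ∀ z : ZMod 3, z = 0 ∨ z = 1 ∨ z = 2 := zmod3_cases
      rcases hz n with e | e | e
      · rw [pow_eq_of_cast_eq hh (show (n : ZMod 3) = ((0 : ℕ) : ZMod 3) by simpa using e),
          pow_zero, eq_comm, conj_eq_one_iff] at hn
        rw [hn, orderOf_one] at hh; omega
      · refine absurd ?_ hgC
        rw [pow_eq_of_cast_eq hh (show (n : ZMod 3) = ((1 : ℕ) : ZMod 3) by simpa using e),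
          pow_one, eq_mul_inv_iff_mul_eq] at hn
        rw [Subgroup.mem_centralizer_iff]
        rintro _ ⟨z, rfl⟩
        exact (Commute.zpow_left hn z).eq
      · exact e
    have hg1 : g * h * g⁻¹ = h ^ 2 := by
      rw [← hn]; exact pow_eq_of_cast_eq hh (by simpa using hn')
    obtain ⟨j, m, hm, hjm⟩ := Nat.exists_eq_two_pow_mul_odd (n := orderOf g) (orderOf_pos g).ne'
    have hpow : ∀ i : ℕ, g ^ i * h * (g ^ i)⁻¹ = h ^ 2 ^ i := fun i => by
      induction i with
      | zero => simp
      | succ i ih =>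
        calc g ^ (i + 1) * h * (g ^ (i + 1))⁻¹ = g * (g ^ i * h * (g ^ i)⁻¹) * g⁻¹ := by
              rw [pow_succ']; group
          _ = h ^ 2 ^ (i + 1) := by rw [ih, ← conj_pow, hg1, ← pow_mul, pow_succ']
    refine ⟨g ^ m, ⟨j, ?_⟩, ?_⟩
    · rw [← pow_mul, mul_comm, ← hjm, pow_orderOf_eq_one]
    · rw [hpow]
      refine pow_eq_of_cast_eq hh ?_
      obtain ⟨i, rfl⟩ := hm
      push_cast
      rw [pow_succ, pow_mul, show (2 : ZMod 3) ^ 2 = 1 from rfl, one_pow, one_mul]
  have hcomm : ∀ y, φ g (dbl7 y) = dbl7 (dbl7 (φ g y)) := fun y => by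
    rw [← hφh]
    rw [mul_inv_eq_iff_eq_mul] at hgh
    have := congrArg (fun k => φ k y) hgh
    simpa [pow_two, Equiv.Perm.mul_apply] using this
  have hg1 : g ≠ 1 := fun e => by
    rw [e, one_mul, inv_one, mul_one] at hgh
    have : h ^ 1 = h ^ 2 := by rw [pow_one]; exact hgh
    rw [pow_eq_pow_iff_modEq, hh] at this
    exact absurd this (by decide)
  have hfixdbl : ∀ y : Line7, dbl7 y = y → y = none ∨ y = some 0 := by decide
  have hzero_of : ∀ (k : G), (∃ j, k ^ 2 ^ j = 1) → ∀ y, φ k y = y → k = 1 := fun k ⟨j, hj⟩ y hy => by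
    refine eq_one_of_stab hcard (Q := f y) ?_ hj
    conv_rhs => rw [← hy]
    exact (e.apply_symm_apply (k • e y)).symm
  have hgn : φ g none = some 0 := by
    have h1 := hcomm none
    rw [show dbl7 none = none from rfl] at h1
    have h2 : dbl7 (φ g none) = φ g none := by
      have h4 : ∀ z : Line7, z = dbl7 (dbl7 z) → dbl7 z = z := by decide
      exact h4 _ h1
    exact (hfixdbl _ h2).resolve_left fun e => hg1 (hzero_of g hg2 none e)
  have hgz : φ g (some 0) = none := by
    have h1 := hcomm (some 0)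
    rw [show dbl7 (some 0) = some 0 by decide] at h1
    have h4 : ∀ z : Line7, z = dbl7 (dbl7 z) → dbl7 z = z := by decide
    exact (hfixdbl _ (h4 _ h1)).resolve_right fun e => hg1 (hzero_of g hg2 (some 0) e)
  have hgg : g * g = 1 := by
    obtain ⟨j, hj⟩ := hg2
    refine hzero_of (g * g) ⟨j, by rw [← pow_two, ← pow_mul, mul_comm, pow_mul, hj, one_pow]⟩ none ?_
    rw [map_mul, Equiv.Perm.mul_apply, hgn, hgz]
  obtain ⟨c, hc⟩ : ∃ c, φ g (some 1) = some c := by
    rcases hval : φ g (some 1) with _ | c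
    · rw [← hgz] at hval; exact absurd ((φ g).injective hval) (by decide)
    · exact ⟨c, rfl⟩
  have hc0 : c ≠ 0 := fun e => by
    rw [e, ← hgn] at hc; exact absurd ((φ g).injective hc) (by decide)
  -- twisting `g` by a power of `h`
  have htw : ∀ k : ℕ, (g * h ^ k) * (g * h ^ k) = 1 ∧
      φ (g * h ^ k) none = some 0 ∧ φ (g * h ^ k) (some 0) = none ∧
      φ (g * h ^ k) (some 1) = some (4 ^ k * c) ∧
      ∀ y, φ (g * h ^ k) (dbl7 y) = dbl7 (dbl7 (φ (g * h ^ k) y)) := by
    intro k
    have e1 : g * h ^ k = h ^ (2 * k) * g := by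
      rw [← mul_inv_eq_iff_eq_mul, ← conj_pow, hgh, ← pow_mul]
    have hk : ∀ k : ℕ, φ (h ^ k) none = none ∧ φ (h ^ k) (some 0) = some 0 ∧
        φ g (φ (h ^ k) (some 1)) = some (4 ^ k * c) ∧
        ∀ y, φ (h ^ k) (dbl7 y) = dbl7 (φ (h ^ k) y) := fun k => by
      induction k with
      | zero => simp [hc]
      | succ k ih =>
        rw [pow_succ', map_mul, hφh]
        simp only [Equiv.Perm.mul_apply]
        refine ⟨by rw [ih.1]; rfl, by rw [ih.2.1]; decide, ?_, fun y => by rw [ih.2.2.2]⟩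
        rw [hcomm, ih.2.2.1]
        change some (2 * (2 * _)) = _
        rw [pow_succ]; congr 1; ring
    refine ⟨?_, ?_, ?_, ?_, fun y => ?_⟩
    · calc g * h ^ k * (g * h ^ k) = h ^ (2 * k) * (g * g) * h ^ k := by
            nth_rw 1 [e1]; group
        _ = (h ^ 3) ^ k := by rw [hgg, mul_one, ← pow_add, ← pow_mul]; ring_nf
        _ = 1 := by rw [hh3, one_pow]
    · rw [map_mul, Equiv.Perm.mul_apply, (hk k).1, hgn]
    · rw [map_mul, Equiv.Perm.mul_apply, (hk k).2.1, hgz]
    · rw [map_mul, Equiv.Perm.mul_apply, (hk k).2.2.1]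
    · rw [map_mul, Equiv.Perm.mul_apply, Equiv.Perm.mul_apply, (hk k).2.2.2, hcomm]
  have hcs : ∀ z : ZMod 7, z ≠ 0 → (∃ k : Fin 3, 4 ^ (k : ℕ) * z = 1) ∨ ∃ k : Fin 3, 4 ^ (k : ℕ) * z = 6 := by
    decide
  rcases hcs c hc0 with ⟨k, hk⟩ | ⟨k, hk⟩
  · -- an involution with a fixed point
    obtain ⟨h1, h2, -, h4, -⟩ := htw k
    have := hzero_of _ ⟨1, by rw [pow_one, pow_two, h1]⟩ (some 1) (by rw [h4, hk])
    rw [this, map_one] at h2
    exact absurd h2 (by decide)
  · obtain ⟨h1, h2, h3, h4, h5⟩ := htw k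
    rw [hk] at h4
    set u := g * h ^ (k : ℕ)
    have h6 : φ u (some 6) = some 1 := by
      rw [← h4, ← Equiv.Perm.mul_apply, ← map_mul, h1, map_one]; rfl
    have hu : φ u = inv7 := by
      have a2 := h5 (some 1)
      have a4 := h5 (dbl7 (some 1))
      have a5 := h5 (some 6)
      have a3 := h5 (dbl7 (some 6))
      rw [a2, h4] at a4
      rw [a5, h6] at a3
      rw [h4] at a2
      rw [h6] at a5
      refine Equiv.ext fun y => ?_
      rcases y with _ | x
      · rw [h2]; rfl
      · fin_cases x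
        · exact h3
        · exact h4
        · exact a2
        · exact a3
        · exact a4
        · exact a5
        · exact h6
    refine ⟨φ, hinj, ?_⟩
    let H : Subgroup G := Subgroup.closure {t, h, u}
    have hHmap : H.map φ = lineGroup := by
      rw [MonoidHom.map_closure, lineGroup]
      simp [Set.image_insert_eq, hφt, hφh, hu]
    have hHtop : H = ⊤ := by
      by_contra hne
      have hd : ∀ x ∈ H, orderOf x ∣ Nat.card H := fun x hx =>
        Subgroup.orderOf_mk x hx ▸ orderOf_dvd_natCard _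
      have d7 := hd t (Subgroup.subset_closure (by simp))
      have d3 := hd h (Subgroup.subset_closure (by simp))
      have d2 := hd u (Subgroup.subset_closure (by simp))
      rw [ht] at d7
      rw [hh] at d3
      rw [orderOf_eq_prime (p := 2) (by rw [pow_two, h1]) (fun e => by
        rw [e, map_one] at h2; exact absurd h2 (by decide))] at d2
      have d42 : 42 ∣ Nat.card H :=
        Nat.Coprime.mul_dvd_of_dvd_of_dvd (by decide : Nat.Coprime 14 3)
          (Nat.Coprime.mul_dvd_of_dvd_of_dvd (by decide : Nat.Coprime 7 2) d7 d2) d3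
      have hm := H.card_mul_index
      rw [hcard] at hm
      have hle : 42 ≤ Nat.card H := Nat.le_of_dvd Nat.card_pos d42
      rcases not_dvd_factorial hcard hne with h8 | h8
      · nlinarith
      · rw [h8] at hm; omega
    rw [← hHmap, hHtop, ← MonoidHom.range_eq_map]

/-- A simple group of order 168 is isomorphic to `lineGroup`. -/
theorem equiv_lineGroup : Nonempty (G ≃* lineGroup) := by
  obtain ⟨φ, hinj, hr⟩ := exists_line_embedding hcard
  exact ⟨(MonoidHom.ofInjective hinj).trans (MulEquiv.subgroupCongr hr)⟩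

end Cfsg.Agent.Lib.SmallSimple
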