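import Cfsg.Prelude.Def_Solvable
import Cfsg.Agent.S0678
import Cfsg.Agent.Lib.SmallSimple.Basic
import Cfsg.Agent.Lib.SmallSimple.PrimeDegree
import Cfsg.Agent.Lib.Char.Burnside
import Cfsg.Agent.Lib.Hall.Basic
import Cfsg.Agent.Lib.Char.BrolineGarrison

/-!
The subgroups of `A_8` without non-trivial solvable normal subgroups.
-/

set_option autoImplicit false

namespace Cfsg.Agent.Lib.SmallSimple.AltEight

open scoped Pointwise

open Equiv MulAction

/-- Nothing soluble and normal. -/
def Radical (G : Type*) [Group G] : Prop := ∀ K : Subgroup G, K.Normal → Group.IsSolvable K → K = ⊥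

theorem radical_of_cores {G : Type*} [Group G] [Finite G] (h : Cfsg.pPrimeCore 2 G = ⊥)
    (h2 : Cfsg.pCore 2 G = ⊥) : Radical G := by
  intro K hK hsol
  haveI := hK
  by_contra hne
  haveI : Nontrivial K := (Subgroup.nontrivial_iff_ne_bot K).2 hne
  obtain ⟨⟨p, hp⟩, hpc⟩ := Cfsg.Agent.Lib.BrolineGarrison.exists_pCore_ne_bot_of_solvable (G := K)
  haveI : Fact p.Prime := ⟨hp⟩
  set M := (Cfsg.pCore p K).map K.subtype
  have hMn : M.Normal := inferInstance
  have hMp : IsPGroup p M := (Hall.isPGroup_pCore p).map _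
  have hM : M ≠ ⊥ := by
    rw [Ne, Subgroup.map_eq_bot_iff_of_injective _ K.subtype_injective]
    exact hpc
  by_cases h' : p = 2
  · subst h'
    exact hM (le_bot_iff.1 (h2 ▸ Hall.le_pCore hMp))
  · refine hM (le_bot_iff.1 (h ▸ Hall.le_pPrimeCore ?_))
    obtain ⟨k, hk⟩ := hMp.exists_card_eq
    rw [hk]
    exact Nat.Coprime.pow_left k ((Nat.coprime_primes hp Nat.prime_two).2 h')

theorem radical_congr {G G' : Type*} [Group G] [Group G'] (e : G ≃* G') (h : Radical G) : Radical G' := by
  intro K hK hsol
  have hK' : (K.comap e.toMonoidHom).Normal := hK.comap _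
  have hs : Group.IsSolvable (K.comap e.toMonoidHom) := by
    haveI := hsol
    exact Group.isSolvable_of_isSolvable_injective (f := e.toMonoidHom.subgroupComap K)
      fun x y hxy => Subtype.ext (e.injective (congrArg Subtype.val hxy))
  have := h _ hK' hs
  rw [← Subgroup.map_comap_eq_self_of_surjective (f := e.toMonoidHom) e.surjective K]
  erw [this]
  exact Subgroup.map_bot _

theorem solvable_two_primes {G : Type*} [Group G] [Finite G] {p q a b : ℕ} (hp : p.Prime) (hq : q.Prime)
    (h : Nat.card G ∣ p ^ a * q ^ b) : Group.IsSolvable G := by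
  refine Char.isSolvable_of_card_eq_two_primes hp hq _ G rfl fun r hr hrd => ?_
  rcases hr.dvd_mul.1 (hrd.trans h) with h1 | h1
  · exact Or.inl ((Nat.prime_dvd_prime_iff_eq hr hp).1 (hr.dvd_of_dvd_pow h1))
  · exact Or.inr ((Nat.prime_dvd_prime_iff_eq hr hq).1 (hr.dvd_of_dvd_pow h1))

/-- A group of insoluble order dividing sixty has order sixty. -/
theorem card_eq_sixty {G : Type*} [Group G] [Finite G] (hG : ¬ Group.IsSolvable G)
    (h : Nat.card G ∣ 60) : Nat.card G = 60 := by
  by_contra hne
  have hd : Nat.card G ∈ Nat.divisors 60 := Nat.mem_divisors.2 ⟨h, by norm_num⟩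
  rw [show Nat.divisors 60 = {1, 2, 3, 4, 5, 6, 10, 12, 15, 20, 30, 60} from by decide] at hd
  simp only [Finset.mem_insert, Finset.mem_singleton] at hd
  by_cases h30 : Nat.card G = 30
  · haveI : IsZGroup G := IsZGroup.of_squarefree (by
      rw [h30, show (30 : ℕ) = 6 * 5 from rfl]
      refine Nat.squarefree_mul_iff.2 ⟨by norm_num, ?_, (show Nat.Prime 5 by norm_num).squarefree⟩
      rw [show (6 : ℕ) = 2 * 3 from rfl]
      exact Nat.squarefree_mul_iff.2 ⟨by norm_num, Nat.prime_two.squarefree, Nat.prime_three.squarefree⟩)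
    exact hG inferInstance
  · refine hG ?_
    have : Nat.card G ∣ 2 ^ 2 * 3 ^ 1 ∨ Nat.card G ∣ 2 ^ 2 * 5 ^ 1 ∨ Nat.card G ∣ 3 ^ 1 * 5 ^ 1 := by
      rcases hd with h | h | h | h | h | h | h | h | h | h | h | h <;>
        first | exact absurd h h30 | exact absurd h hne | (rw [h]; norm_num)
    rcases this with h' | h' | h'
    · exact solvable_two_primes Nat.prime_two Nat.prime_three h'
    · exact solvable_two_primes Nat.prime_two (by norm_num) h'
    · exact solvable_two_primes Nat.prime_three (by norm_num) h'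

section Alt

variable {α : Type*} [Fintype α] [DecidableEq α]

theorem card_alt {n : ℕ} (hα : Fintype.card α = n) (hn : 2 ≤ n) :
    Nat.card (alternatingGroup α) = n.factorial / 2 := by
  haveI : Nontrivial α := Fintype.one_lt_card_iff_nontrivial.1 (by omega)
  rw [nat_card_alternatingGroup, Nat.card_eq_fintype_card, hα]

/-- A subgroup of a group containing the alternating group. -/
theorem cases_of_alt_le [Nontrivial α] {R : Subgroup (Perm α)} (h : alternatingGroup α ≤ R) :
    R = alternatingGroup α ∨ R = ⊤ := by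
  have h1 := Subgroup.relIndex_mul_index h
  rw [alternatingGroup.index_eq_two] at h1
  rcases (Nat.dvd_prime Nat.prime_two).1 (Dvd.intro_left _ h1) with h2 | h2
  · exact Or.inr (Subgroup.index_eq_one.1 h2)
  · exact Or.inl (Equiv.Perm.eq_alternatingGroup_of_index_eq_two h2)

theorem solvable_of_inf {R : Subgroup (Perm α)}
    (h : Group.IsSolvable ↥(R ⊓ alternatingGroup α)) : Group.IsSolvable R := by
  haveI := h
  let f : R →* ℤˣ := Perm.sign.comp R.subtype
  exact Group.isSolvable_of_ker_le_range (Subgroup.inclusion (inf_le_left : R ⊓ alternatingGroup α ≤ R)) f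
    fun x hx => ⟨⟨x.1, x.2, Perm.mem_alternatingGroup.2 hx⟩, Subtype.ext rfl⟩

/-- The index of an insoluble subgroup of a simple alternating group. -/
theorem index_cases {n : ℕ} (hα : Fintype.card α = n) (hn : 5 ≤ n) (M : Subgroup (alternatingGroup α)) :
    M = ⊤ ∨ n ≤ M.index := by
  haveI : Nontrivial α := Fintype.one_lt_card_iff_nontrivial.1 (by omega)
  haveI : IsSimpleGroup (alternatingGroup α) := alternatingGroup.isSimpleGroup (by
    rw [Nat.card_eq_fintype_card]; omega)
  have hc : Nat.card (alternatingGroup α) = n.factorial / 2 := card_alt hα (by omega)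
  have h2 : 2 * (n.factorial / 2) = n.factorial :=
    Nat.mul_div_cancel' (Nat.dvd_factorial (by norm_num) (by omega))
  have hG : ¬ IsMulCommutative (alternatingGroup α) := not_isMulCommutative_of_card (by
    intro hp
    rw [hc] at hp
    have h3 : Nat.factorial 5 ≤ n.factorial := Nat.factorial_le hn
    have h4 : 60 ≤ n.factorial / 2 := by
      rw [show Nat.factorial 5 = 120 from rfl] at h3; omega
    have h5 : 3 ∣ n.factorial / 2 :=
      Nat.Coprime.dvd_of_dvd_mul_left (by norm_num) (h2 ▸ Nat.dvd_factorial (by norm_num) (by omega))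
    rcases (Nat.dvd_prime hp).1 h5 with h | h <;> omega)
  by_cases hM : M = ⊤
  · exact Or.inl hM
  right
  have := two_mul_card_dvd_factorial hG M hM
  rw [hc, h2] at this
  exact by
    by_contra hlt
    have h0 : 0 < M.index := Nat.pos_of_ne_zero Subgroup.index_ne_zero_of_finite
    have := Nat.le_of_dvd (Nat.factorial_pos _) this
    have := (Nat.factorial_lt h0).2 (Nat.lt_of_not_le hlt)
    omega

end Alt

section Coset

/-- A core-free subgroup acts faithfully on the other cosets. -/
theorem exists_hom_cosets {X : Type*} [Group X] [Finite X] (M : Subgroup X) (hM : M.normalCore = ⊥) :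
    ∃ ψ : M →* Perm (Fin (M.index - 1)), Function.Injective ψ := by
  classical
  haveI := Fintype.ofFinite (X ⧸ M)
  let Y := {c : X ⧸ M // c ≠ ((1 : X) : X ⧸ M)}
  have hY : Fintype.card Y = M.index - 1 := by
    rw [Fintype.card_subtype_compl, Fintype.card_subtype_eq, ← Nat.card_eq_fintype_card,
      ← Subgroup.index_eq_card]
  have hfix : ∀ m : M, (m : X) • ((1 : X) : X ⧸ M) = ((1 : X) : X ⧸ M) := fun m => by
    rw [MulAction.Quotient.smul_coe, smul_eq_mul, mul_one, QuotientGroup.eq, mul_one]
    exact inv_mem m.2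
  let act : MulAction M Y :=
    { smul := fun m y => ⟨(m : X) • y.1, fun h => y.2 (MulAction.injective (m : X) (h.trans (hfix m).symm))⟩
      one_smul := fun y => Subtype.ext (one_smul X y.1)
      mul_smul := fun a b y => Subtype.ext (mul_smul (a : X) (b : X) y.1) }
  letI := act
  let e : Y ≃ Fin (M.index - 1) := Fintype.equivFinOfCardEq hY
  refine ⟨e.permCongrHom.toMonoidHom.comp (MulAction.toPermHom M Y), fun a b hab => ?_⟩
  have h := e.permCongrHom.injective hab
  have key : ∀ m : M, MulAction.toPermHom M Y m = 1 → m = 1 := fun m hm => by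
    have hcore : (m : X) ∈ (MulAction.toPermHom X (X ⧸ M)).ker := by
      rw [MonoidHom.mem_ker]
      ext c
      by_cases hc : c = ((1 : X) : X ⧸ M)
      · subst hc; exact hfix m
      · exact congrArg Subtype.val (DFunLike.congr_fun hm ⟨c, hc⟩)
    rw [← Subgroup.normalCore_eq_ker, hM, Subgroup.mem_bot] at hcore
    exact Subtype.ext hcore
  have : MulAction.toPermHom M Y (a * b⁻¹) = 1 := by
    rw [map_mul, map_inv, show MulAction.toPermHom M Y a = MulAction.toPermHom M Y b from h, mul_inv_cancel]
  exact mul_inv_eq_one.1 (key _ this)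

/-- Subgroups of index `n` in the alternating group of degree `n`. -/
theorem equiv_alt_pred {α : Type*} [Fintype α] [DecidableEq α] {n : ℕ} (hα : Fintype.card α = n) (hn : 5 ≤ n)
    (M : Subgroup (alternatingGroup α)) (hM : M.index = n) :
    Nonempty (M ≃* alternatingGroup (Fin (n - 1))) := by
  haveI : IsSimpleGroup (alternatingGroup α) := alternatingGroup.isSimpleGroup (by
    rw [Nat.card_eq_fintype_card]; omega)
  have hcore : M.normalCore = ⊥ := by
    refine ((inferInstance : M.normalCore.Normal).eq_bot_or_eq_top).resolve_right fun h => ?_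
    have : M = ⊤ := top_le_iff.1 (h ▸ M.normalCore_le)
    rw [this, Subgroup.index_top] at hM
    omega
  obtain ⟨ψ, hψ⟩ : ∃ ψ : M →* Perm (Fin (n - 1)), Function.Injective ψ := by
    rw [← hM]; exact exists_hom_cosets M hcore
  have hr : Nat.card ψ.range = Nat.card M := (Nat.card_congr (MonoidHom.ofInjective hψ).toEquiv).symm
  have hc := Subgroup.card_mul_index M
  rw [hM, card_alt hα (by omega)] at hc
  obtain ⟨k, rfl⟩ : ∃ k, n = k + 1 := ⟨n - 1, by omega⟩
  have hk : 2 * (k.factorial / 2) = k.factorial :=
    Nat.mul_div_cancel' (Nat.dvd_factorial (by norm_num) (by omega))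
  have h2 : (k + 1).factorial / 2 = (k.factorial / 2) * (k + 1) := by
    rw [Nat.factorial_succ]
    conv_lhs => rw [← hk, show (k + 1) * (2 * (k.factorial / 2)) = 2 * ((k.factorial / 2) * (k + 1)) by ring]
    exact Nat.mul_div_cancel_left _ (by norm_num)
  rw [h2] at hc
  have hMc : Nat.card M = k.factorial / 2 := Nat.eq_of_mul_eq_mul_right (by omega) hc
  have hidx : ψ.range.index = 2 := by
    have h := Subgroup.card_mul_index ψ.range
    rw [hr, hMc, Nat.card_perm, Nat.card_fin] at h
    replace h : k.factorial / 2 * ψ.range.index = k.factorial := h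
    have h' : k.factorial / 2 * ψ.range.index = k.factorial / 2 * 2 := by
      rw [h, mul_comm, hk]
    exact Nat.eq_of_mul_eq_mul_left (Nat.div_pos (Nat.le_of_dvd (Nat.factorial_pos k)
      (Nat.dvd_factorial (by norm_num) (by omega))) (by norm_num)) h'
  exact ⟨(MonoidHom.ofInjective hψ).trans
    (MulEquiv.subgroupCongr (Equiv.Perm.eq_alternatingGroup_of_index_eq_two hidx))⟩

end Coset

/-- The conclusion. -/
def Listed (H : Type*) [Group H] : Prop :=
  (∃ n : ℕ, 5 ≤ n ∧ n ≤ 8 ∧ Nonempty (H ≃* alternatingGroup (Fin n))) ∨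
    Nonempty (H ≃* Perm (Fin 5)) ∨ Nonempty (H ≃* Perm (Fin 6)) ∨ (IsSimpleGroup H ∧ Nat.card H = 168)

theorem Listed.congr {H H' : Type*} [Group H] [Group H'] (e : H ≃* H') (h : Listed H') : Listed H := by
  rcases h with ⟨n, h1, h2, ⟨f⟩⟩ | ⟨⟨f⟩⟩ | ⟨⟨f⟩⟩ | ⟨hs, hc⟩
  · exact Or.inl ⟨n, h1, h2, ⟨e.trans f⟩⟩
  · exact Or.inr (Or.inl ⟨e.trans f⟩)
  · exact Or.inr (Or.inr (Or.inl ⟨e.trans f⟩))
  · haveI := hs
    haveI : Nontrivial H := e.toEquiv.nontrivial
    exact Or.inr (Or.inr (Or.inr ⟨IsSimpleGroup.isSimpleGroup_of_surjective e.symm.toMonoidHom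
      e.symm.surjective, by rw [Nat.card_congr e.toEquiv, hc]⟩))

variable {α : Type*} [Fintype α] [DecidableEq α]

theorem alt_equiv {n : ℕ} (hα : Fintype.card α = n) :
    Nonempty (alternatingGroup α ≃* alternatingGroup (Fin n)) :=
  ⟨(Fintype.equivFinOfCardEq hα).altCongrHom⟩

theorem degree_five (hα : Fintype.card α = 5) (R : Subgroup (Perm α)) (hR : ¬ Group.IsSolvable R) :
    Listed R := by
  haveI : Nontrivial α := Fintype.one_lt_card_iff_nontrivial.1 (by omega)
  set M := R ⊓ alternatingGroup α
  have hM : ¬ Group.IsSolvable M := fun h => hR (solvable_of_inf h)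
  have h60 : Nat.card (alternatingGroup α) = 60 := card_alt hα (by norm_num)
  have hc := card_eq_sixty hM (h60 ▸ Subgroup.card_dvd_of_le inf_le_right)
  have hle : alternatingGroup α ≤ R := by
    rw [← Subgroup.eq_of_le_of_card_ge (show M ≤ alternatingGroup α from inf_le_right) (by rw [hc, h60])]
    exact inf_le_left
  rcases cases_of_alt_le hle with rfl | rfl
  · obtain ⟨e⟩ := alt_equiv hα
    exact Or.inl ⟨5, le_rfl, by norm_num, ⟨e⟩⟩
  · exact Or.inr (Or.inl ⟨Subgroup.topEquiv.trans (Fintype.equivFinOfCardEq hα).permCongrHom⟩)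

theorem degree_six (hα : Fintype.card α = 6) (R : Subgroup (Perm α)) (hR : ¬ Group.IsSolvable R) :
    Listed R := by
  haveI : Nontrivial α := Fintype.one_lt_card_iff_nontrivial.1 (by omega)
  set M := (R ⊓ alternatingGroup α).subgroupOf (alternatingGroup α) with hMdef
  have e₀ : M ≃* ↥(R ⊓ alternatingGroup α) := Subgroup.subgroupOfEquivOfLe inf_le_right
  have hM : ¬ Group.IsSolvable M := fun h => hR (solvable_of_inf (by
    haveI := h
    exact Group.isSolvable_of_isSolvable_injective (f := e₀.symm.toMonoidHom) e₀.symm.injective))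
  have h360 : Nat.card (alternatingGroup α) = 360 := card_alt hα (by norm_num)
  have hmul := Subgroup.card_mul_index M
  rw [h360] at hmul
  rcases index_cases hα (by norm_num) M with hT | hidx
  · have hle : alternatingGroup α ≤ R := fun x hx => by
      have : (⟨x, hx⟩ : alternatingGroup α) ∈ M := hT ▸ Subgroup.mem_top _
      exact (Subgroup.mem_subgroupOf.1 this).1
    rcases cases_of_alt_le hle with rfl | rfl
    · obtain ⟨e⟩ := alt_equiv hα
      exact Or.inl ⟨6, by norm_num, by norm_num, ⟨e⟩⟩
    · exact Or.inr (Or.inr (Or.inl ⟨Subgroup.topEquiv.trans (Fintype.equivFinOfCardEq hα).permCongrHom⟩))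
  have hle60 : Nat.card M ≤ 60 := by
    have := Nat.mul_le_mul_left (Nat.card M) hidx
    omega
  have hd : Nat.card M ∣ 360 := Dvd.intro _ hmul
  have h60 : Nat.card M = 60 := by
    by_contra hne
    apply hM
    have hd' : Nat.card M ∈ Nat.divisors 360 := Nat.mem_divisors.2 ⟨hd, by norm_num⟩
    rw [show Nat.divisors 360 = {1, 2, 3, 4, 5, 6, 8, 9, 10, 12, 15, 18, 20, 24, 30, 36, 40, 45, 60,
      72, 90, 120, 180, 360} from by decide +kernel] at hd'
    simp only [Finset.mem_insert, Finset.mem_singleton] at hd'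
    have hdiv : ∀ N : ℕ, N % Nat.card M = 0 → Nat.card M ∣ N := fun N h => Nat.dvd_of_mod_eq_zero h
    by_cases h30 : Nat.card M = 30
    · by_contra hs
      exact hne (card_eq_sixty hs (by rw [h30]; norm_num))
    have : Nat.card M ∣ 2 ^ 3 * 3 ^ 2 ∨ Nat.card M ∣ 2 ^ 3 * 5 ^ 1 ∨ Nat.card M ∣ 3 ^ 2 * 5 ^ 1 := by
      rcases hd' with h | h | h | h | h | h | h | h | h | h | h | h | h | h | h | h | h | h | h | h | h | h | h | h <;>
        first | exact absurd h h30 | exact absurd h hne | omega | (rw [h]; norm_num)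
    rcases this with h' | h' | h'
    · exact solvable_two_primes Nat.prime_two Nat.prime_three h'
    · exact solvable_two_primes Nat.prime_two (by norm_num) h'
    · exact solvable_two_primes Nat.prime_three (by norm_num) h'
  have hi6 : M.index = 6 := by rw [h60] at hmul; omega
  obtain ⟨e₁⟩ := equiv_alt_pred hα (by norm_num) M hi6
  have hR120 : Nat.card R = 60 ∨ Nat.card R = 120 := by
    have h1 : Nat.card ↥(R ⊓ alternatingGroup α) = 60 := by rw [← Nat.card_congr e₀.toEquiv, h60]
    have h2 := Subgroup.card_mul_index ((alternatingGroup α).subgroupOf R)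
    have h3 : Nat.card ((alternatingGroup α).subgroupOf R) = 60 := by
      rw [← Subgroup.inf_subgroupOf_left, Nat.card_congr (Subgroup.subgroupOfEquivOfLe inf_le_left).toEquiv, h1]
    have h4 : ((alternatingGroup α).subgroupOf R).index ∣ 2 := by
      rw [← alternatingGroup.index_eq_two (α := α)]
      exact Subgroup.relIndex_dvd_index_of_normal _ _
    rw [h3] at h2
    rcases (Nat.dvd_prime Nat.prime_two).1 h4 with h5 | h5 <;> rw [h5] at h2 <;> omega
  rcases hR120 with h | h
  · have hle : R = R ⊓ alternatingGroup α := (Subgroup.eq_of_le_of_card_ge inf_le_left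
      (by rw [← Nat.card_congr e₀.toEquiv, h60, h])).symm
    exact Or.inl ⟨5, le_rfl, by norm_num, ⟨(MulEquiv.subgroupCongr hle).trans (e₀.symm.trans e₁)⟩⟩
  · have hi : R.index = 6 := by
      have h2 := Subgroup.card_mul_index R
      rw [h, Nat.card_perm, Nat.card_eq_fintype_card, hα, show Nat.factorial 6 = 720 from rfl] at h2
      omega
    have hcore : R.normalCore = ⊥ := by
      by_contra hne
      have hK : R.normalCore ⊓ alternatingGroup α = ⊥ := by
        haveI : IsSimpleGroup (alternatingGroup α) := alternatingGroup.isSimpleGroup (by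
          rw [Nat.card_eq_fintype_card]; omega)
        rcases (Subgroup.Normal.subgroupOf (inferInstance : R.normalCore.Normal)
          (alternatingGroup α)).eq_bot_or_eq_top with h1 | h1
        · rw [Subgroup.subgroupOf_eq_bot, disjoint_iff] at h1
          exact h1
        · rw [Subgroup.subgroupOf_eq_top] at h1
          have := Subgroup.card_dvd_of_le (h1.trans R.normalCore_le)
          rw [h, h360] at this
          norm_num at this
      apply hne
      rw [eq_bot_iff]
      intro k hk
      have hc : k ∈ Subgroup.center (Perm α) := Subgroup.mem_center_iff.2 fun g => by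
        have h1 : g * k * g⁻¹ * k⁻¹ ∈ R.normalCore ⊓ alternatingGroup α := by
          refine Subgroup.mem_inf.2 ⟨mul_mem ((inferInstance : R.normalCore.Normal).conj_mem k hk g) (inv_mem hk),
            Perm.mem_alternatingGroup.2 ?_⟩
          simp [mul_comm, mul_left_comm]
        rw [hK, Subgroup.mem_bot, mul_inv_eq_one, mul_inv_eq_iff_eq_mul] at h1
        exact h1
      rw [Subgroup.mem_bot]
      by_contra hk1
      obtain ⟨x, hx⟩ : ∃ x, k x ≠ x := by
        by_contra h
        push_neg at h
        exact hk1 (Equiv.ext h)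
      obtain ⟨c, hcx⟩ : ∃ c, c ∉ ({x, k x} : Finset α) := by
        by_contra h
        push_neg at h
        have := Finset.card_le_card (fun a _ => h a : Finset.univ ⊆ ({x, k x} : Finset α))
        rw [Finset.card_univ, hα] at this
        have := Finset.card_le_two (a := x) (b := k x)
        omega
      simp only [Finset.mem_insert, Finset.mem_singleton, not_or] at hcx
      have h1 := DFunLike.congr_fun (Subgroup.mem_center_iff.1 hc (swap (k x) c)) x
      rw [Perm.mul_apply, Perm.mul_apply, swap_apply_left, swap_apply_of_ne_of_ne (Ne.symm hx) (Ne.symm hcx.1)] at h1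
      exact hcx.2 h1
    obtain ⟨ψ, hψ⟩ : ∃ ψ : R →* Perm (Fin 5), Function.Injective ψ := by
      have := exists_hom_cosets R hcore
      rwa [hi] at this
    refine Or.inr (Or.inl ⟨MulEquiv.ofBijective ψ ((Nat.bijective_iff_injective_and_card ψ).2 ⟨hψ, ?_⟩)⟩)
    rw [h, Nat.card_perm, Nat.card_fin]; rfl

theorem degree_seven (hα : Fintype.card α = 7) (R : Subgroup (Perm α)) [IsPretransitive R α]
    (hA : R ≤ alternatingGroup α) (hR : ¬ Group.IsSolvable R) : Listed R := by
  by_cases h : alternatingGroup α ≤ R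
  · obtain ⟨e⟩ := alt_equiv hα
    exact Or.inl ⟨7, by norm_num, by norm_num, ⟨(MulEquiv.subgroupCongr (le_antisymm hA h)).trans e⟩⟩
  · exact Or.inr (Or.inr (Or.inr ((Cfsg.Agent.S0678.result hα R hR h).symm)))

/-- A transitive group of degree eight with an element of order five is primitive. -/
theorem preprimitive_of_five (hα : Fintype.card α = 8) {R : Subgroup (Perm α)} [IsPretransitive R α]
    {g : Perm α} (hg : g ∈ R) (hc : g.cycleType = {5}) : IsPreprimitive R α := by
  have hcyc : g.IsCycle := by
    rw [← Perm.card_cycleType_eq_one, hc]; rfl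
  have hsupp : g.support.card = 5 := by rw [← Perm.sum_cycleType, hc]; rfl
  have h5 : g ^ 5 = 1 := by
    have := g.lcm_cycleType
    rw [hc, Multiset.lcm_singleton] at this
    rw [show (5 : ℕ) = orderOf g from by simpa using this, pow_orderOf_eq_one]
  refine { isTrivialBlock_of_isBlock := fun {B} hB => ?_ }
  rw [IsTrivialBlock, or_iff_not_imp_left]
  intro hns
  have hstab : ∀ B' : Set α, IsBlock R B' → ¬ B'.Subsingleton → ∀ z ∈ B', g z ∈ B' := by
    intro B' hB' hns' z hz
    have key : ∀ r : R, ∀ w ∈ B', (r : Perm α) w ∈ B' → ∀ v ∈ B', (r : Perm α) v ∈ B' := by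
      intro r w hw hrw v hv
      have he : r • B' = B' := hB'.smul_eq_of_nonempty ⟨_, Set.smul_mem_smul_set hw, hrw⟩
      exact he ▸ Set.smul_mem_smul_set (a := r) hv
    by_cases hfix : ∃ w ∈ B', g w = w
    · obtain ⟨w, hw, hgw⟩ := hfix
      exact key ⟨g, hg⟩ w hw (by rw [show ((⟨g, hg⟩ : R) : Perm α) w = w from hgw]; exact hw) z hz
    push_neg at hfix
    rw [Set.not_subsingleton_iff] at hns'
    obtain ⟨x, hx, y, hy, hxy⟩ := hns'
    obtain ⟨i, hi⟩ := hcyc.exists_pow_eq (hfix x hx) (hfix y hy)
    have hi5 : ¬ 5 ∣ i := by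
      rintro ⟨k, rfl⟩
      rw [pow_mul, h5, one_pow] at hi
      exact hxy hi
    have hst : ∀ v ∈ B', (g ^ i) v ∈ B' := fun v hv =>
      key (⟨g, hg⟩ ^ i) x hx (by rw [SubgroupClass.coe_pow]; exact hi ▸ hy) v hv
    have hst' : ∀ k : ℕ, ∀ v ∈ B', (g ^ (i * k)) v ∈ B' := by
      intro k
      induction k with
      | zero => intro v hv; simpa using hv
      | succ k ih =>
        intro v hv
        rw [show i * (k + 1) = i + i * k by ring, pow_add, Perm.mul_apply]
        exact hst _ (ih v hv)
    obtain ⟨k, hk⟩ : ∃ k, i * k % 5 = 1 := by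
      have : i % 5 = 1 ∨ i % 5 = 2 ∨ i % 5 = 3 ∨ i % 5 = 4 := by omega
      rcases this with h | h | h | h
      · exact ⟨1, by omega⟩
      · exact ⟨3, by omega⟩
      · exact ⟨2, by omega⟩
      · exact ⟨4, by omega⟩
    have := hst' k z hz
    rwa [← Nat.mod_add_div (i * k) 5, hk, pow_add, pow_one, pow_mul, h5, one_pow, mul_one] at this
  obtain ⟨x, hx⟩ : ∃ x, g x ≠ x := by
    by_contra hno
    push_neg at hno
    rw [show g.support = ∅ from by ext v; simp [hno v]] at hsupp
    simp at hsupp
  rw [Set.not_subsingleton_iff] at hns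
  obtain ⟨a₀, ha₀, b₀, hb₀, hab₀⟩ := hns
  obtain ⟨r, hr⟩ := exists_smul_eq R a₀ x
  have hB' := hB.translate r
  have hxB : x ∈ r • B := hr ▸ Set.smul_mem_smul_set ha₀
  have hnsB : ¬ (r • B).Subsingleton := fun h => by
    exact hab₀ (MulAction.injective r (h (Set.smul_mem_smul_set ha₀) (Set.smul_mem_smul_set hb₀)))
  have hall : (g.support : Set α) ⊆ r • B := by
    intro v hv
    obtain ⟨i, hi⟩ := hcyc.exists_pow_eq hx (Perm.mem_support.1 hv)
    rw [← hi]
    clear hi
    induction i with
    | zero => simpa using hxB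
    | succ i ih => rw [pow_succ', Perm.mul_apply]; exact hstab _ hB' hnsB _ ih
  have hge : 5 ≤ (r • B).ncard := by
    rw [← hsupp, ← Set.ncard_coe_finset]
    exact Set.ncard_le_ncard hall (Set.toFinite _)
  have hdvd := hB'.ncard_dvd_card ⟨x, hxB⟩
  rw [Nat.card_eq_fintype_card, hα] at hdvd
  have h8 : (r • B).ncard = 8 := by
    have := Nat.le_of_dvd (by norm_num) hdvd
    interval_cases h : (r • B).ncard <;> first | rfl | norm_num at hdvd
  have huniv : r • B = Set.univ := Set.eq_univ_of_univ_subset (by
    rw [← Set.eq_of_subset_of_ncard_le (Set.subset_univ (r • B)) (by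
      rw [h8, Set.ncard_univ, Nat.card_eq_fintype_card, hα]) (Set.toFinite _)])
  rw [← inv_smul_smul r B, huniv, Set.smul_set_univ]

omit [Fintype α] [DecidableEq α] in
theorem card_embedding_dvd [Finite α] (R : Subgroup (Perm α)) (h : IsMultiplyPretransitive R α 4) :
    Nat.card (Fin 4 ↪ α) ∣ Nat.card R ∨ IsEmpty (Fin 4 ↪ α) := by
  rcases isEmpty_or_nonempty (Fin 4 ↪ α) with h0 | ⟨⟨e⟩⟩
  · exact Or.inr h0
  · left
    have h2 := Subgroup.index_dvd_card (MulAction.stabilizer R e)
    have horb : MulAction.orbit R e = Set.univ := Set.eq_univ_of_forall fun f => by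
      obtain ⟨g, hg⟩ := h.exists_smul_eq e f
      exact ⟨g, hg⟩
    rw [MulAction.index_stabilizer] at h2
    convert h2 using 1
    rw [← Set.ncard_univ (Fin 4 ↪ α), ← horb]
    congr!

theorem card_normalizer_seven (hα : Fintype.card α = 8) {R : Subgroup (Perm α)}
    (hA : R ≤ alternatingGroup α) (h7 : 7 ∣ Nat.card R) (P : Sylow 7 R) [Fact (Nat.Prime 7)] :
    Nat.card P = 7 ∧ Nat.card ↥(Subgroup.normalizer ((P : Subgroup R) : Set R)) ∣ 21 := by
  haveI : Nontrivial α := Fintype.one_lt_card_iff_nontrivial.1 (by omega)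
  have hS : Nat.card (Perm α) = 40320 := by
    rw [Nat.card_perm, Nat.card_eq_fintype_card, hα]; rfl
  obtain ⟨m, hm⟩ := h7
  have hnd : ¬ 7 ∣ m := fun h => by
    obtain ⟨l, rfl⟩ := h
    have h49 : 49 ∣ Nat.card (Perm α) := by
      refine Dvd.dvd.trans ?_ (Subgroup.card_subgroup_dvd_card R)
      rw [hm, ← mul_assoc]; exact dvd_mul_right _ _
    rw [hS] at h49
    norm_num at h49
  have hP : Nat.card P = 7 := by rw [card_sylow_subgroup P (k := 1) (by rw [hm, pow_one]) hnd, pow_one]
  refine ⟨hP, ?_⟩
  set Q := (P : Subgroup R).map R.subtype with hQ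
  have hQc : Nat.card Q = 7 := by
    rw [hQ, ← Nat.card_congr ((P : Subgroup R).equivMapOfInjective R.subtype R.subtype_injective).toEquiv, hP]
  obtain ⟨S, hS'⟩ := (IsPGroup.of_card (p := 7) (n := 1) (by rw [hQc, pow_one]) : IsPGroup 7 Q).exists_le_sylow
  have hQS : Q = S := Subgroup.eq_of_le_of_card_ge hS' (by
    rw [hQc, card_sylow_perm (Or.inr hα) S])
  have h2 := two_mul_card_normalizer_inf_alternating (p := 7) (by norm_num) S
  rw [card_normalizer_sylow_perm (Or.inr hα) S, show 7 * (7 - 1) = 2 * 21 from rfl] at h2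
  rw [← Nat.eq_of_mul_eq_mul_left two_pos h2, Nat.card_congr
    ((Subgroup.normalizer ((P : Subgroup R) : Set R)).equivMapOfInjective R.subtype R.subtype_injective).toEquiv]
  refine Subgroup.card_dvd_of_le (le_inf ?_ ?_)
  · refine (Subgroup.le_normalizer_map R.subtype).trans ?_
    rw [← hQ, hQS]
  · rintro _ ⟨x, -, rfl⟩
    exact hA x.2

/-- A subgroup with a self-normalizing Sylow 7-subgroup. -/
theorem solvable_of_seven_self {G : Type*} [Group G] [Finite G] [Fact (Nat.Prime 7)] (P : Sylow 7 G)
    (hP : Nat.card P = 7) (hN : Nat.card ↥(Subgroup.normalizer ((P : Subgroup G) : Set G)) = 7)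
    (hG : Nat.card G ∣ 2 ^ 6 * 3 ^ 2 * 7) : Group.IsSolvable G := by
  have hNP : Subgroup.normalizer ((P : Subgroup G) : Set G) = (P : Subgroup G) :=
    (Subgroup.eq_of_le_of_card_ge Subgroup.le_normalizer (by rw [hN, hP])).symm
  haveI : IsCyclic P := isCyclic_of_prime_card hP
  have hle : Subgroup.normalizer ((P : Subgroup G) : Set G) ≤ Subgroup.centralizer ((P : Subgroup G) : Set G) := by
    rw [hNP]
    letI : CommGroup P := IsCyclic.commGroup
    exact fun x hx y hy => congrArg Subtype.val (mul_comm (⟨y, hy⟩ : P) ⟨x, hx⟩)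
  have hK := MonoidHom.ker_transferSylow_isComplement' P hle
  set f := MonoidHom.transferSylow P hle
  have hc : Nat.card f.ker * 7 = Nat.card G := by rw [← hK.card_mul, hP]
  haveI : Group.IsSolvable f.ker := solvable_two_primes (a := 6) (b := 2) Nat.prime_two Nat.prime_three (by
    refine Nat.dvd_of_mul_dvd_mul_right (show 0 < 7 by norm_num) ?_
    rw [hc]; exact hG)
  haveI : Group.IsSolvable P := by
    letI : CommGroup P := IsCyclic.commGroup
    infer_instance
  exact Group.isSolvable_of_ker_le_range f.ker.subtype f (by rw [Subgroup.range_subtype])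

theorem degree_eight (hα : Fintype.card α = 8) (R : Subgroup (Perm α)) [IsPretransitive R α]
    (hA : R ≤ alternatingGroup α) (hR : ¬ Group.IsSolvable R) (hrad : Radical R)
    (h1344 : ∀ M : Subgroup (alternatingGroup α), IsSimpleGroup M → Nat.card M ≠ 1344) : Listed R := by
  haveI : Nontrivial α := Fintype.one_lt_card_iff_nontrivial.1 (by omega)
  haveI : Fact (Nat.Prime 7) := ⟨by norm_num⟩
  have hA8 : Nat.card (alternatingGroup α) = 20160 := card_alt hα (by norm_num)
  set M := R.subgroupOf (alternatingGroup α) with hM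
  have eM : M ≃* R := Subgroup.subgroupOfEquivOfLe hA
  rcases index_cases hα (by norm_num) M with hT | hidx
  · obtain ⟨e⟩ := alt_equiv hα
    have : R = alternatingGroup α := le_antisymm hA (Subgroup.subgroupOf_eq_top.1 hT)
    exact Or.inl ⟨8, by norm_num, le_rfl, ⟨(MulEquiv.subgroupCongr this).trans e⟩⟩
  have hmul := Subgroup.card_mul_index M
  rw [hA8, Nat.card_congr eM.toEquiv] at hmul
  have hle : Nat.card R ≤ 2520 := by
    have := Nat.mul_le_mul_left (Nat.card R) hidx
    omega
  have hdvd : Nat.card R ∣ 20160 := Dvd.intro _ hmul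
  have h8 : 8 ∣ Nat.card R := by
    obtain ⟨a⟩ : Nonempty α := inferInstance
    have := index_stabilizer_of_transitive (G := R) a
    rw [Nat.card_eq_fintype_card, hα] at this
    exact this ▸ Subgroup.index_dvd_card _
  by_cases h5 : 5 ∣ Nat.card R
  · exfalso
    haveI : Fact (Nat.Prime 5) := ⟨by norm_num⟩
    obtain ⟨g, hg⟩ := exists_prime_orderOf_dvd_card' 5 h5
    have hg5 : orderOf (g : Perm α) = 5 := by
      rw [← hg]; exact orderOf_injective R.subtype R.subtype_injective g
    have hct : (g : Perm α).cycleType = {5} := by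
      obtain ⟨k, hk⟩ := Perm.cycleType_prime_order (σ := (g : Perm α)) (by rw [hg5]; norm_num)
      rw [hg5] at hk
      have hs := Perm.sum_cycleType (g : Perm α)
      rw [hk, Multiset.sum_replicate, smul_eq_mul] at hs
      have := Finset.card_le_univ (g : Perm α).support
      rw [hα] at this
      obtain rfl : k = 0 := by omega
      rw [hk]; rfl
    have hprim := preprimitive_of_five hα g.2 hct
    have hsupp : (g : Perm α).support.card = 5 := by rw [← Perm.sum_cycleType, hct]; rfl
    have h4 : IsMultiplyPreprimitive R α (2 + 2) := by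
      refine hprim.isMultiplyPreprimitive (s := ((g : Perm α).supportᶜ : Set α)) ?_ ?_ ?_
      · have := Set.ncard_add_ncard_compl ((g : Perm α).support : Set α)
        rw [Set.ncard_coe_finset, hsupp, Nat.card_eq_fintype_card, hα] at this
        omega
      · rw [Nat.card_eq_fintype_card, hα]; norm_num
      · have := Perm.isPretransitive_of_isCycle_mem (G := R)
          (by rw [← Perm.card_cycleType_eq_one, hct]; rfl) g.2
        refine IsPreprimitive.of_prime_card ?_
        convert (show Nat.Prime 5 by norm_num)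
        classical
        rw [Nat.card_eq_fintype_card, Fintype.card_subtype, ← hsupp]
        apply congr_arg
        ext x
        simp [SubMulAction.mem_ofFixingSubgroup_iff]
    have h4' : IsMultiplyPretransitive R α 4 := IsMultiplyPreprimitive.isMultiplyPretransitive ..
    have hc : Nat.card (Fin 4 ↪ α) = 1680 := by
      rw [Nat.card_eq_fintype_card, Fintype.card_embedding_eq, Fintype.card_fin, hα]; rfl
    have h1680 : Nat.card R = 1680 := by
      rcases card_embedding_dvd R h4' with h | h
      · rw [hc] at h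
        obtain ⟨k, hk⟩ := h
        have hk' : k ∣ 12 := Nat.dvd_of_mul_dvd_mul_left (show 0 < 1680 by norm_num) (hk ▸ hdvd)
        rw [hk] at hle ⊢
        have : k ≤ 1 := by omega
        have : 0 < 1680 * k := hk ▸ Nat.card_pos
        omega
      · rw [Nat.card_of_isEmpty] at hc; omega
    obtain ⟨P⟩ : Nonempty (Sylow 7 R) := inferInstance
    obtain ⟨hP, hN⟩ := card_normalizer_seven hα hA (by rw [h1680]; norm_num) P
    have hn : Nat.card (Sylow 7 R) % 7 = 1 := card_sylow_modEq_one 7 R
    have hmulN := Subgroup.card_mul_index (Subgroup.normalizer ((P : Subgroup R) : Set R))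
    rw [show (Subgroup.normalizer ((P : Subgroup R) : Set R)).index = Nat.card (Sylow 7 R) from P.card_eq_index_normalizer.symm, h1680] at hmulN
    have h7N : 7 ∣ Nat.card ↥(Subgroup.normalizer ((P : Subgroup R) : Set R)) := by
      have := Subgroup.card_dvd_of_le (Subgroup.le_normalizer (H := (P : Subgroup R)))
      rwa [hP] at this
    have hN' := Nat.le_of_dvd (by norm_num) hN
    have hNpos : 0 < Nat.card ↥(Subgroup.normalizer ((P : Subgroup R) : Set R)) := Nat.card_pos
    generalize Nat.card ↥(Subgroup.normalizer ((P : Subgroup R) : Set R)) = N at *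
    generalize Nat.card (Sylow 7 R) = s at *
    have : N = 7 ∨ N = 14 ∨ N = 21 := by omega
    rcases this with rfl | rfl | rfl
    · omega
    · norm_num at hN
    · omega
  · have hdvd' : Nat.card R ∣ 2 ^ 6 * 3 ^ 2 * 7 := by
      refine (Nat.Coprime.dvd_of_dvd_mul_left ((Nat.Prime.coprime_iff_not_dvd (by norm_num)).2 h5).symm ?_)
      exact hdvd.trans (by norm_num : 20160 ∣ 5 * (2 ^ 6 * 3 ^ 2 * 7))
    have h7 : 7 ∣ Nat.card R := by
      by_contra h7
      exact hR (solvable_two_primes Nat.prime_two Nat.prime_three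
        (Nat.Coprime.dvd_of_dvd_mul_right ((Nat.Prime.coprime_iff_not_dvd (by norm_num)).2 h7).symm hdvd'))
    have hN21 : ∀ (K : Subgroup (Perm α)), K ≤ R → ¬ Group.IsSolvable K → 7 ∣ Nat.card K →
        ∀ P : Sylow 7 K, Nat.card ↥(Subgroup.normalizer ((P : Subgroup K) : Set K)) = 21 := by
      intro K hK hKs hK7 P
      obtain ⟨hP, hN⟩ := card_normalizer_seven hα (hK.trans hA) hK7 P
      have h7N : 7 ∣ Nat.card ↥(Subgroup.normalizer ((P : Subgroup K) : Set K)) := by
        have := Subgroup.card_dvd_of_le (Subgroup.le_normalizer (H := (P : Subgroup K)))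
        rwa [hP] at this
      have hN' := Nat.le_of_dvd (by norm_num) hN
      have hne : Nat.card ↥(Subgroup.normalizer ((P : Subgroup K) : Set K)) ≠ 7 := fun h =>
        hKs (solvable_of_seven_self P hP h ((Subgroup.card_dvd_of_le hK).trans hdvd'))
      have hNpos : 0 < Nat.card ↥(Subgroup.normalizer ((P : Subgroup K) : Set K)) := Nat.card_pos
      generalize Nat.card ↥(Subgroup.normalizer ((P : Subgroup K) : Set K)) = N at *
      have : N = 14 ∨ N = 21 := by omega
      rcases this with rfl | rfl
      · norm_num at hN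
      · rfl
    obtain ⟨P⟩ : Nonempty (Sylow 7 R) := inferInstance
    have hPN := hN21 R le_rfl hR h7 P
    have hmulN := Subgroup.card_mul_index (Subgroup.normalizer ((P : Subgroup R) : Set R))
    rw [show (Subgroup.normalizer ((P : Subgroup R) : Set R)).index = Nat.card (Sylow 7 R) from P.card_eq_index_normalizer.symm, hPN] at hmulN
    have hmod : Nat.card (Sylow 7 R) % 7 = 1 := card_sylow_modEq_one 7 R
    have hsimple : IsSimpleGroup R := by
      haveI : Nontrivial R := by
        rw [← Finite.one_lt_card_iff_nontrivial]; omega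
      refine ⟨fun K hK => ?_⟩
      by_contra hne
      push_neg at hne
      haveI := hK
      have hKs : ¬ Group.IsSolvable K := fun h => hne.1 (hrad K hK h)
      have hK7 : 7 ∣ Nat.card K := by
        by_contra h
        exact hKs (solvable_two_primes Nat.prime_two Nat.prime_three
          (Nat.Coprime.dvd_of_dvd_mul_right ((Nat.Prime.coprime_iff_not_dvd (by norm_num)).2 h).symm
            ((Subgroup.card_subgroup_dvd_card K).trans hdvd')))
      have hidxK := Subgroup.card_mul_index K
      have hindex : ¬ 7 ∣ K.index := fun h => by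
        have : 49 ∣ Nat.card R := by rw [← hidxK]; exact Nat.mul_dvd_mul hK7 h
        have := this.trans hdvd
        norm_num at this
      have hSK : (P : Subgroup R) ≤ K := by
        intro x hx
        obtain ⟨k, hk⟩ := P.isPGroup' ⟨x, hx⟩
        have h1 : orderOf (x : R) ∣ 7 ^ k := orderOf_dvd_of_pow_eq_one (by
          simpa using congrArg Subtype.val hk)
        have h2 : orderOf (QuotientGroup.mk' K x) ∣ Nat.gcd (7 ^ k) K.index :=
          Nat.dvd_gcd ((orderOf_map_dvd _ _).trans h1) (by
            rw [Subgroup.index_eq_card]; exact orderOf_dvd_natCard _)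
        rw [Nat.Coprime.pow_left k ((Nat.Prime.coprime_iff_not_dvd (by norm_num)).2 hindex),
          Nat.dvd_one, orderOf_eq_one_iff] at h2
        exact (QuotientGroup.eq_one_iff x).1 h2
      have hP7 := (card_normalizer_seven hα hA h7 P).1
      set Q : Sylow 7 K := P.subtype hSK
      have hQc : Nat.card Q = 7 := by
        rw [show (Q : Subgroup K) = (P : Subgroup R).subgroupOf K from rfl,
          Nat.card_congr (Subgroup.subgroupOfEquivOfLe hSK).toEquiv, hP7]
      set NQ := Subgroup.normalizer ((Q : Subgroup K) : Set K)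
      have hmap : NQ.map K.subtype ≤ Subgroup.normalizer ((P : Subgroup R) : Set R) := by
        refine (Subgroup.le_normalizer_map K.subtype).trans ?_
        rw [show (Q : Subgroup K) = (P : Subgroup R).subgroupOf K from rfl,
          Subgroup.subgroupOf_map_subtype, inf_eq_left.2 hSK]
      have hc1 : Nat.card ↥(NQ.map K.subtype) = Nat.card NQ :=
        (Nat.card_congr (NQ.equivMapOfInjective K.subtype K.subtype_injective).toEquiv).symm
      have hd21 : Nat.card NQ ∣ 21 := by
        rw [← hc1, ← hPN]; exact Subgroup.card_dvd_of_le hmap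
      have h7Q : 7 ∣ Nat.card NQ := by
        have := Subgroup.card_dvd_of_le (Subgroup.le_normalizer (H := (Q : Subgroup K)))
        rwa [hQc] at this
      have hQ21 : Nat.card NQ = 21 := by
        have hne7 : Nat.card NQ ≠ 7 := fun h =>
          hKs (solvable_of_seven_self Q hQc h ((Subgroup.card_subgroup_dvd_card K).trans hdvd'))
        have := Nat.le_of_dvd (by norm_num) hd21
        have hNpos : 0 < Nat.card NQ := Nat.card_pos
        generalize Nat.card NQ = N at *
        have : N = 14 ∨ N = 21 := by omega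
        rcases this with rfl | rfl
        · norm_num at hd21
        · rfl
      have hNK : Subgroup.normalizer ((P : Subgroup R) : Set R) ≤ K := by
        rw [← Subgroup.eq_of_le_of_card_ge hmap (by rw [hc1, hQ21, hPN])]
        exact Subgroup.map_subtype_le NQ
      have hfr := P.normalizer_sup_eq_top' hSK
      exact hne.2 ((sup_eq_right.2 hNK).symm.trans hfr)
    refine Or.inr (Or.inr (Or.inr ⟨hsimple, ?_⟩))
    have hne1344 : Nat.card R ≠ 1344 := by
      haveI := hsimple
      haveI : Nontrivial M := eM.toEquiv.nontrivial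
      intro h
      exact h1344 M (IsSimpleGroup.isSimpleGroup_of_surjective eM.symm.toMonoidHom eM.symm.surjective)
        (by rw [Nat.card_congr eM.toEquiv, h])
    have hd192 : Nat.card (Sylow 7 R) ∣ 192 := by
      refine Nat.dvd_of_mul_dvd_mul_left (show 0 < 21 by norm_num) ?_
      rw [hmulN]; exact hdvd'
    have hmem : Nat.card (Sylow 7 R) ∈ Nat.divisors 192 := Nat.mem_divisors.2 ⟨hd192, by norm_num⟩
    rw [show Nat.divisors 192 = {1, 2, 3, 4, 6, 8, 12, 16, 24, 32, 48, 64, 96, 192} from by decide] at hmem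
    simp only [Finset.mem_insert, Finset.mem_singleton] at hmem
    omega

/-- The subgroups of `A_8` without soluble normal subgroups. -/
theorem classification (hα : Fintype.card α = 8) (H : Subgroup (Perm α)) (hA : H ≤ alternatingGroup α)
    (hne : H ≠ ⊥) (hrad : Radical H)
    (h1344 : ∀ M : Subgroup (alternatingGroup α), IsSimpleGroup M → Nat.card M ≠ 1344) : Listed H := by
  classical
  have hns : ¬ Group.IsSolvable H := fun h => by
    have htop : (⊤ : Subgroup H) = ⊥ := hrad ⊤ inferInstance (by
      haveI := h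
      exact Group.isSolvable_of_isSolvable_injective (f := (Subgroup.topEquiv : (⊤ : Subgroup H) ≃* H).toMonoidHom) Subgroup.topEquiv.injective)
    apply hne
    rw [eq_bot_iff]
    intro x hx
    have : (⟨x, hx⟩ : H) ∈ (⊤ : Subgroup H) := Subgroup.mem_top _
    rw [htop, Subgroup.mem_bot] at this
    exact congrArg Subtype.val this
  -- an element of order at least five gives a large orbit
  have hbig : ∃ a : α, 5 ≤ Nat.card (orbit H a) := by
    by_contra hno
    push_neg at hno
    have hp : ∀ p, p.Prime → 5 ≤ p → ¬ p ∣ Nat.card H := by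
      intro p hp h5 hd
      haveI : Fact p.Prime := ⟨hp⟩
      obtain ⟨g, hg⟩ := exists_prime_orderOf_dvd_card' p hd
      obtain ⟨a, ha⟩ : ∃ a, (g : Perm α) a ≠ a := by
        by_contra h
        push_neg at h
        have : g = 1 := Subtype.ext (Equiv.ext h)
        rw [this, orderOf_one] at hg
        exact hp.ne_one hg.symm
      have hsub : orbit (Subgroup.zpowers g) a ⊆ orbit H a := by
        rintro _ ⟨k, rfl⟩
        exact ⟨(k : H), rfl⟩
      have hdv : Nat.card (orbit (Subgroup.zpowers g) a) ∣ p := by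
        rw [← hg, ← Nat.card_zpowers, Nat.card_congr (MulAction.orbitEquivQuotientStabilizer _ a),
          ← Subgroup.index_eq_card]
        exact Subgroup.index_dvd_card _
      rcases (Nat.dvd_prime hp).1 hdv with h1 | h1
      · obtain ⟨hs, -⟩ := Nat.card_eq_one_iff_unique.1 h1
        exact ha (congrArg Subtype.val (Subsingleton.elim
          (⟨(⟨g, Subgroup.mem_zpowers g⟩ : Subgroup.zpowers g) • a, mem_orbit _ _⟩ :
            orbit (Subgroup.zpowers g) a) ⟨a, mem_orbit_self a⟩))
      · have := Nat.card_mono (Set.toFinite _) hsub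
        have := hno a
        omega
    apply hns
    have h1 : Nat.card H ∣ 2 ^ 7 * 3 ^ 2 * 5 * 7 := by
      have := Subgroup.card_subgroup_dvd_card H
      rw [Nat.card_perm, Nat.card_eq_fintype_card (α := α), hα] at this
      exact this
    exact solvable_two_primes Nat.prime_two Nat.prime_three
      (Nat.Coprime.dvd_of_dvd_mul_right ((Nat.Prime.coprime_iff_not_dvd (by norm_num)).2
        (hp 5 (by norm_num) le_rfl)).symm
        (Nat.Coprime.dvd_of_dvd_mul_right ((Nat.Prime.coprime_iff_not_dvd (by norm_num)).2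
          (hp 7 (by norm_num) (by norm_num))).symm h1))
  obtain ⟨a, ha⟩ := hbig
  set O := orbit H a with hO
  haveI : Fintype O := Fintype.ofFinite _
  have hstab : ∀ (h : H) (x : α), (h : Perm α) x ∈ O ↔ x ∈ O := fun h x => by
    show h • x ∈ O ↔ x ∈ O
    rw [hO, ← MulAction.orbit_eq_iff, MulAction.orbit_smul, MulAction.orbit_eq_iff]
  let φ : H →* Perm O :=
    { toFun := fun h => (h : Perm α).subtypePerm (hstab h)
      map_one' := by ext x; rfl
      map_mul' := fun h h' => by ext x; rfl }
  let χ : H →* Perm {x : α // x ∉ O} :=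
    { toFun := fun h => (h : Perm α).subtypePerm (fun x => not_congr (hstab h x))
      map_one' := by ext x; rfl
      map_mul' := fun h h' => by ext x; rfl }
  have hcompl : Fintype.card {x : α // x ∉ O} = 8 - Nat.card O := by
    rw [Fintype.card_subtype_compl, hα, ← Nat.card_eq_fintype_card (α := {x // x ∈ O})]
  have hinj : Function.Injective φ := by
    rw [← MonoidHom.ker_eq_bot_iff]
    refine hrad _ inferInstance ?_
    have hinjχ : Function.Injective (χ.comp φ.ker.subtype) := by
      intro x y hxy
      refine Subtype.ext (Subtype.ext (Equiv.ext fun z => ?_))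
      by_cases hz : z ∈ O
      · have hx := DFunLike.congr_fun (MonoidHom.mem_ker.1 x.2) ⟨z, hz⟩
        have hy := DFunLike.congr_fun (MonoidHom.mem_ker.1 y.2) ⟨z, hz⟩
        exact (congrArg Subtype.val hx).trans (congrArg Subtype.val hy).symm
      · exact congrArg Subtype.val (DFunLike.congr_fun hxy ⟨z, hz⟩)
    haveI : Group.IsSolvable (Perm {x : α // x ∉ O}) := solvable_two_primes (p := 2) (q := 3) (a := 1) (b := 1)
      Nat.prime_two Nat.prime_three (by
        rw [Nat.card_perm, Nat.card_eq_fintype_card, hcompl, show 2 ^ 1 * 3 ^ 1 = Nat.factorial 3 from rfl]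
        exact Nat.factorial_dvd_factorial (by omega))
    exact Group.isSolvable_of_isSolvable_injective hinjχ
  have e : H ≃* φ.range := MonoidHom.ofInjective hinj
  haveI : IsPretransitive φ.range O := by
    refine ⟨fun x y => ?_⟩
    obtain ⟨h, hh⟩ := (MulAction.orbit_eq_iff.2 x.2).ge.trans le_rfl y.2 |> fun hy =>
      (show (y : α) ∈ orbit H (x : α) from by
        rw [MulAction.orbit_eq_iff.2 x.2]; exact y.2)
    exact ⟨⟨φ h, h, rfl⟩, Subtype.ext hh⟩
  have hR : ¬ Group.IsSolvable φ.range := fun h => hns (by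
    haveI := h; exact Group.isSolvable_of_isSolvable_injective (f := e.toMonoidHom) e.injective)
  have hOle : Nat.card O ≤ 8 := by
    rw [← hα, ← Nat.card_eq_fintype_card]
    exact Nat.card_le_card_of_injective _ Subtype.val_injective
  refine Listed.congr e ?_
  have heven : 7 ≤ Nat.card O → φ.range ≤ alternatingGroup O := by
    rintro h7 _ ⟨h, rfl⟩
    rw [Perm.mem_alternatingGroup]
    show Perm.sign ((h : Perm α).subtypePerm (hstab h)) = 1
    refine Eq.trans ?_ ((Perm.sign_subtypePerm _ (hstab h) ?_).trans (hA h.2))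
    · congr! 
    · intro x hx
      by_contra hxO
      have hhx : (h : Perm α) x ∉ O := fun hc => hxO ((hstab h x).1 hc)
      have := Fintype.one_lt_card_iff.2 ⟨(⟨x, hxO⟩ : {x : α // x ∉ O}), ⟨_, hhx⟩,
        fun he => hx (congrArg Subtype.val he).symm⟩
      omega
  have hOc : Fintype.card O = Nat.card O := Nat.card_eq_fintype_card.symm
  rcases (show Nat.card O = 5 ∨ Nat.card O = 6 ∨ Nat.card O = 7 ∨ Nat.card O = 8 by omega) with h | h | h | h
  · exact degree_five (hOc.trans h) _ hR
  · exact degree_six (hOc.trans h) _ hR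
  · exact degree_seven (hOc.trans h) _ (heven (by omega)) hR
  · refine degree_eight (hOc.trans h) _ (heven (by omega)) hR (radical_congr e hrad) ?_
    intro M hM
    have huniv : ∀ x, x ∈ O := fun x => by
      by_contra hx
      have := Fintype.card_pos_iff.2 ⟨(⟨x, hx⟩ : {x : α // x ∉ O})⟩
      omega
    let eO : O ≃ α := Equiv.subtypeUnivEquiv huniv
    let eA : alternatingGroup O ≃* alternatingGroup α := eO.altCongrHom
    let eM := M.equivMapOfInjective eA.toMonoidHom eA.injective
    haveI := hM
    haveI : Nontrivial (M.map eA.toMonoidHom) := eM.symm.toEquiv.nontrivial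
    rw [Nat.card_congr eM.toEquiv]
    exact h1344 _ (IsSimpleGroup.isSimpleGroup_of_surjective eM.toMonoidHom eM.surjective)

end Cfsg.Agent.Lib.SmallSimple.AltEight
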