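import Cfsg.Agent.Lib.SmallSimple.Basic
import Cfsg.Agent.Lib.Char.SelfCentPrime

/-!
Degree conditions on simple groups with a self-centralising Sylow subgroup of prime order.
-/

set_option autoImplicit false

open Cfsg Cfsg.Agent.Lib.Char

namespace Cfsg.Agent.Lib.SmallSimple

variable {G : Type*} [Group G] [Finite G] [IsSimpleGroup G] {p : ℕ} [Fact p.Prime]

/-- A Sylow subgroup of order `p` whose normaliser has order `pe`, `e` prime, is self-centralising. -/
theorem centralizer_le_of_prime (hG : ¬ IsMulCommutative G) (P : Sylow p G)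
    (hP : Nat.card (P : Subgroup G) = p) {e : ℕ} (he : e.Prime)
    (hN : Nat.card (Subgroup.normalizer ((P : Subgroup G) : Set G)) = p * e) :
    Subgroup.centralizer ((P : Subgroup G) : Set G) ≤ P := by
  have hp : p.Prime := Fact.out
  have hpd : p ∣ Nat.card G := by
    have := (P : Subgroup G).card_subgroup_dvd_card
    rwa [hP] at this
  set C := Subgroup.centralizer ((P : Subgroup G) : Set G)
  have hPcyc : IsCyclic (P : Subgroup G) := isCyclic_of_prime_card hP
  have hPC : (P : Subgroup G) ≤ C := fun x hx => Subgroup.mem_centralizer_iff.2 fun y hy =>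
    congrArg Subtype.val (hPcyc.isMulCommutative.is_comm.comm ⟨y, hy⟩ ⟨x, hx⟩)
  have hCN : C ≤ Subgroup.normalizer ((P : Subgroup G) : Set G) := fun x hx => by
    rw [Subgroup.mem_normalizer_iff]
    intro z
    constructor
    · intro hz
      rw [← Subgroup.mem_centralizer_iff.1 hx z hz, mul_inv_cancel_right]; exact hz
    · intro hz
      have h := Subgroup.mem_centralizer_iff.1 hx _ hz
      have : x * z * x⁻¹ = z := mul_left_cancel (h.symm.trans (by group) : x * (x * z * x⁻¹) = x * z)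
      exact this ▸ hz
  obtain ⟨t, ht⟩ : p ∣ Nat.card C := hP ▸ Subgroup.card_dvd_of_le hPC
  have hte : t ∣ e := Nat.dvd_of_mul_dvd_mul_left hp.pos (ht ▸ hN ▸ Subgroup.card_dvd_of_le hCN)
  rcases (Nat.dvd_prime he).1 hte with rfl | rfl
  · exact (Subgroup.eq_of_le_of_card_ge hPC (by rw [ht, hP, mul_one])).ge
  · exfalso
    refine not_normalizer_le_centralizer hG P hpd ?_
    exact (Subgroup.eq_of_le_of_card_ge hCN (by rw [ht, hN])).ge

/-- The case `e = 2`. -/
theorem degrees_two (hG : ¬ IsMulCommutative G) (P : Sylow p G)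
    (hP : Nat.card (P : Subgroup G) = p) {m : ℕ}
    (hN : Nat.card (Subgroup.normalizer ((P : Subgroup G) : Set G)) = p * 2) (hm : m * 2 = p - 1) (hm4 : 4 ≤ m) :
    ∃ d f : ℕ, d ∣ Nat.card G ∧ f ∣ Nat.card G ∧ 1 < f ∧ m * d ^ 2 + f ^ 2 < Nat.card G ∧
      ((f = d + 1 ∧ (p : ℤ) ∣ (d : ℤ) + 2) ∨ (d = f + 1 ∧ (p : ℤ) ∣ (f : ℤ) - 1)) := by
  have := Fintype.ofFinite G
  obtain ⟨d, ε, s, a, hε, hd, hd0, hdp, ha, hs, heq, hsq⟩ := exists_degrees (P := (P : Subgroup G))
    Fact.out hP (centralizer_le_of_prime hG P hP Nat.prime_two hN) (commutator_eq_top hG) 2 m hN hm hm4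
  have hcard : s.card = 1 := by
    have h1 : ∀ χ ∈ s, (1 : ℤ) ≤ a χ * a χ := fun χ hχ => mul_self_pos.2 (hs χ hχ).1
    have h2 := Finset.sum_le_sum h1
    rw [ha, Finset.sum_const, nsmul_eq_mul, mul_one] at h2
    rcases Nat.eq_zero_or_pos s.card with h | h
    · rw [Finset.card_eq_zero.1 h] at ha; simp at ha
    · omega
  obtain ⟨χ, rfl⟩ := Finset.card_eq_one.1 hcard
  obtain ⟨ha0, hf, hf1, hfp⟩ := hs χ (Finset.mem_singleton_self χ)
  simp only [Finset.sum_singleton] at ha heq hsq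
  refine ⟨d, _, hd, hf, hf1, by omega, ?_⟩
  rcases Int.eq_one_or_neg_one_of_mul_eq_one (show a χ * a χ = 1 by push_cast at ha; linarith) with h | h <;>
    rcases hε with rfl | rfl <;> rw [h] at heq hfp
  · omega
  · exact Or.inr ⟨by omega, hfp⟩
  · exact Or.inl ⟨by omega, by simpa using hdp⟩
  · omega

/-- The case `e = 3`. -/
theorem degrees_three (hG : ¬ IsMulCommutative G) (P : Sylow p G)
    (hP : Nat.card (P : Subgroup G) = p) {m : ℕ}
    (hN : Nat.card (Subgroup.normalizer ((P : Subgroup G) : Set G)) = p * 3) (hm : m * 3 = p - 1) (hm5 : 5 ≤ m) :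
    ∃ (d f g : ℕ) (ε δ η : ℤ), (ε = 1 ∨ ε = -1) ∧ (δ = 1 ∨ δ = -1) ∧ (η = 1 ∨ η = -1) ∧
      d ∣ Nat.card G ∧ f ∣ Nat.card G ∧ g ∣ Nat.card G ∧ 1 < f ∧ 1 < g ∧
      (p : ℤ) ∣ (d : ℤ) + 3 * ε ∧ (p : ℤ) ∣ (f : ℤ) - δ ∧ (p : ℤ) ∣ (g : ℤ) - η ∧
      1 + ε * d + δ * f + η * g = 0 ∧ m * d ^ 2 + f ^ 2 + g ^ 2 < Nat.card G := by
  classical
  have := Fintype.ofFinite G
  obtain ⟨d, ε, s, a, hε, hd, hd0, hdp, ha, hs, heq, hsq⟩ := exists_degrees (P := (P : Subgroup G))
    Fact.out hP (centralizer_le_of_prime hG P hP Nat.prime_three hN) (commutator_eq_top hG) 3 m hN hm hm5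
  have h1 : ∀ χ ∈ s, (1 : ℤ) ≤ a χ * a χ := fun χ hχ => mul_self_pos.2 (hs χ hχ).1
  have hcard : s.card = 2 := by
    have h2 := Finset.sum_le_sum h1
    rw [ha, Finset.sum_const, nsmul_eq_mul, mul_one] at h2
    have hle : s.card ≤ 2 := by push_cast at h2; omega
    interval_cases h : s.card
    · rw [Finset.card_eq_zero.1 h] at ha; simp at ha
    · obtain ⟨χ, rfl⟩ := Finset.card_eq_one.1 h
      rw [Finset.sum_singleton] at ha
      exfalso
      push_cast at ha
      have hlt : a χ < 2 := by nlinarith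
      have hgt : -2 < a χ := by nlinarith
      interval_cases hh : a χ <;> omega
    · rfl
  obtain ⟨χ, ψ, hne, rfl⟩ := Finset.card_eq_two.1 hcard
  have hχ : χ ∈ ({χ, ψ} : Finset _) := by simp
  have hψ : ψ ∈ ({χ, ψ} : Finset _) := by simp
  rw [Finset.sum_pair hne] at ha heq hsq
  obtain ⟨-, hf, hf1, hfp⟩ := hs χ hχ
  obtain ⟨-, hg, hg1, hgp⟩ := hs ψ hψ
  refine ⟨d, _, _, ε, a χ, a ψ, hε, ?_, ?_, hd, hf, hg, hf1, hg1, by simpa [mul_comm] using hdp, hfp, hgp,
    by linarith, by omega⟩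
  · exact (Int.eq_one_or_neg_one_of_mul_eq_one (show a χ * a χ = 1 by have := h1 χ hχ; have := h1 ψ hψ; push_cast at ha; linarith))
  · exact (Int.eq_one_or_neg_one_of_mul_eq_one (show a ψ * a ψ = 1 by have := h1 χ hχ; have := h1 ψ hψ; push_cast at ha; linarith))

theorem card_normalizer_nineteen (hG : ¬ IsMulCommutative G) [Fact (Nat.Prime 19)] (P : Sylow 19 G) (M : ℕ)
    (hc : Nat.card G = 19 * M) (hMlt : M < 19 * 16)
    (hdiv : ∀ k < 16, 19 * k + 1 ∣ M → k = 0 ∨ k = 5) (hM : ¬ 19 ∣ M) :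
    Nat.card (P : Subgroup G) = 19 ∧
      Nat.card (Subgroup.normalizer ((P : Subgroup G) : Set G)) = 19 * (M / 96) := by
  have hP : Nat.card (P : Subgroup G) = 19 := by
    simpa using card_sylow_subgroup P (k := 1) (by simpa using hc) hM
  refine ⟨hP, ?_⟩
  obtain ⟨hn1, hnm, -⟩ := card_sylow_facts (p := 19) hG ⟨M, hc⟩
  have hidx := card_sylow_eq_index P
  have h := (Subgroup.normalizer ((P : Subgroup G) : Set G)).card_mul_index
  rw [← hidx, hc] at h
  obtain ⟨t, ht⟩ : 19 ∣ Nat.card (Subgroup.normalizer ((P : Subgroup G) : Set G)) :=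
    dvd_trans (dvd_of_eq hP.symm) (Subgroup.card_dvd_of_le Subgroup.le_normalizer)
  rw [ht, mul_assoc] at h
  have hnM : t * Nat.card (Sylow 19 G) = M := Nat.eq_of_mul_eq_mul_left (by norm_num) h
  have hMpos : 0 < M := by
    rcases Nat.eq_zero_or_pos M with rfl | h0
    · simp at hM
    · exact h0
  have hle := Nat.le_of_dvd hMpos (Dvd.intro_left t hnM)
  obtain ⟨k, hk⟩ : ∃ k, Nat.card (Sylow 19 G) = 19 * k + 1 :=
    ⟨Nat.card (Sylow 19 G) / 19, by omega⟩
  rcases hdiv k (by omega) (hk ▸ Dvd.intro_left t hnM) with rfl | rfl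
  · omega
  · rw [ht, ← hnM, hk, Nat.mul_div_cancel _ (by norm_num)]

theorem card_ne_3648 : Nat.card G ≠ 3648 := by
  intro hc
  have : Fact (Nat.Prime 19) := ⟨by norm_num⟩
  have hG : ¬ IsMulCommutative G := not_isMulCommutative_of_card (by rw [hc]; norm_num)
  obtain ⟨P⟩ : Nonempty (Sylow 19 G) := inferInstance
  obtain ⟨hP, hN⟩ := card_normalizer_nineteen hG P 192 (by rw [hc]) (by norm_num) (by decide) (by norm_num)
  obtain ⟨d, f, -, hf, hf1, hsq, h⟩ := degrees_two hG P hP hN (m := 9) rfl (by norm_num)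
  rw [hc] at hsq hf
  have hd : d < 21 := by nlinarith
  rcases h with ⟨rfl, h⟩ | ⟨rfl, h⟩
  · have : d = 17 := by omega
    subst this
    norm_num at hf
  · omega

theorem card_ne_5472 : Nat.card G ≠ 5472 := by
  intro hc
  have : Fact (Nat.Prime 19) := ⟨by norm_num⟩
  have hG : ¬ IsMulCommutative G := not_isMulCommutative_of_card (by rw [hc]; norm_num)
  obtain ⟨P⟩ : Nonempty (Sylow 19 G) := inferInstance
  obtain ⟨hP, hN⟩ := card_normalizer_nineteen hG P 288 (by rw [hc]) (by norm_num) (by decide) (by norm_num)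
  obtain ⟨d, f, g, ε, δ, η, hε, hδ, hη, -, hf, hg, hf1, hg1, -, hfp, hgp, heq, hsq⟩ :=
    degrees_three hG P hP hN (m := 6) rfl (by norm_num)
  rw [hc] at hsq hf hg
  have key : ∀ n < 74, n ∣ 5472 → 1 < n → (n % 19 = 1 ∨ n % 19 = 18) → n = 18 := by decide
  have hd : d < 31 := by nlinarith
  have hf2 : f < 74 := by nlinarith
  have hg2 : g < 74 := by nlinarith
  have := key f hf2 hf hf1 (by rcases hδ with rfl | rfl <;> omega)
  have := key g hg2 hg hg1 (by rcases hη with rfl | rfl <;> omega)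
  rcases hε with rfl | rfl <;> rcases hδ with rfl | rfl <;> rcases hη with rfl | rfl <;> omega

end Cfsg.Agent.Lib.SmallSimple
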