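import Cfsg.Prelude.Def_Classical
import Cfsg.Agent.Lib.SmallSimple.Table168
import Cfsg.Agent.Lib.Classical.Order
import Cfsg.Agent.Lib.PSLTwo.KleinGroups
import Mathlib.Algebra.QuadraticAlgebra.Basic
import Mathlib.NumberTheory.LegendreSymbol.QuadraticReciprocity
import Mathlib.FieldTheory.Finite.Basic

/-!
A subgroup of order 168 of `PSU₃(3)`: explicit matrices over `𝔽₃[i]`.
-/

set_option autoImplicit false

namespace Cfsg.Agent.Lib.SmallSimple.UnitaryThree168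

open Matrix

/-- The field of order 9 as a quadratic algebra. -/
abbrev R9 := QuadraticAlgebra (ZMod 3) 2 0

/-- 3 × 3 matrices. -/
abbrev M9 := Matrix (Fin 3) (Fin 3) R9

/-- Image of the shift. -/
def mX : M9 := !![⟨0, 0⟩, ⟨0, 0⟩, ⟨0, 1⟩; ⟨1, 1⟩, ⟨1, 1⟩, ⟨0, 0⟩; ⟨1, 1⟩, ⟨2, 2⟩, ⟨0, 0⟩]

/-- Image of the doubling. -/
def mY : M9 := !![⟨0, 1⟩, ⟨0, 2⟩, ⟨1, 2⟩; ⟨2, 2⟩, ⟨0, 1⟩, ⟨2, 0⟩; ⟨2, 0⟩, ⟨1, 2⟩, ⟨0, 1⟩]

/-- Image of the inversion. -/
def mW : M9 := !![⟨1, 0⟩, ⟨0, 2⟩, ⟨2, 2⟩; ⟨0, 1⟩, ⟨1, 0⟩, ⟨2, 1⟩; ⟨2, 1⟩, ⟨2, 2⟩, ⟨0, 0⟩]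

/-- The enumeration of the indices. -/
def ix (i : Fin 168) : Ix168 :=
  if i.val < 21 then Sum.inl (Fin.ofNat 7 (i.val / 3), Fin.ofNat 3 i.val)
  else Sum.inr (Fin.ofNat 7 ((i.val - 21) / 21), Fin.ofNat 7 ((i.val - 21) / 3), Fin.ofNat 3 (i.val - 21))

/-- Successors under the shift. -/
def nX : Array (Fin 168) := #[3, 7, 14, 6, 10, 17, 9, 13, 20, 12, 16, 2, 15, 19, 5, 18, 1, 8, 0, 4, 11, 24, 28, 35,
  27, 31, 38, 30, 34, 41, 33, 37, 23, 36, 40, 26, 39, 22, 29, 21, 25, 32, 45, 49, 56, 48, 52, 59,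
  51, 55, 62, 54, 58, 44, 57, 61, 47, 60, 43, 50, 42, 46, 53, 66, 70, 77, 69, 73, 80, 72, 76, 83,
  75, 79, 65, 78, 82, 68, 81, 64, 71, 63, 67, 74, 87, 91, 98, 90, 94, 101, 93, 97, 104, 96, 100, 86,
  99, 103, 89, 102, 85, 92, 84, 88, 95, 108, 112, 119, 111, 115, 122, 114, 118, 125, 117, 121, 107, 120, 124, 110,
  123, 106, 113, 105, 109, 116, 129, 133, 140, 132, 136, 143, 135, 139, 146, 138, 142, 128, 141, 145, 131, 144, 127, 134,
  126, 130, 137, 150, 154, 161, 153, 157, 164, 156, 160, 167, 159, 163, 149, 162, 166, 152, 165, 148, 155, 147, 151, 158]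

/-- Successors under the doubling. -/
def nY : Array (Fin 168) := #[1, 2, 0, 4, 5, 3, 7, 8, 6, 10, 11, 9, 13, 14, 12, 16, 17, 15, 19, 20, 18, 22, 23, 21,
  25, 26, 24, 28, 29, 27, 31, 32, 30, 34, 35, 33, 37, 38, 36, 40, 41, 39, 43, 44, 42, 46, 47, 45,
  49, 50, 48, 52, 53, 51, 55, 56, 54, 58, 59, 57, 61, 62, 60, 64, 65, 63, 67, 68, 66, 70, 71, 69,
  73, 74, 72, 76, 77, 75, 79, 80, 78, 82, 83, 81, 85, 86, 84, 88, 89, 87, 91, 92, 90, 94, 95, 93,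
  97, 98, 96, 100, 101, 99, 103, 104, 102, 106, 107, 105, 109, 110, 108, 112, 113, 111, 115, 116, 114, 118, 119, 117,
  121, 122, 120, 124, 125, 123, 127, 128, 126, 130, 131, 129, 133, 134, 132, 136, 137, 135, 139, 140, 138, 142, 143, 141,
  145, 146, 144, 148, 149, 147, 151, 152, 150, 154, 155, 153, 157, 158, 156, 160, 161, 159, 163, 164, 162, 166, 167, 165]

/-- Successors under the inversion. -/
def nW : Array (Fin 168) := #[21, 23, 22, 42, 44, 43, 63, 65, 64, 84, 86, 85, 105, 107, 106, 126, 128, 127, 147, 149, 148, 0, 2, 1,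
  165, 167, 166, 101, 100, 99, 76, 75, 77, 136, 135, 137, 113, 112, 111, 45, 47, 46, 3, 5, 4, 39, 41, 40,
  122, 121, 120, 97, 96, 98, 157, 156, 158, 134, 133, 132, 66, 68, 67, 6, 8, 7, 60, 62, 61, 143, 142, 141,
  118, 117, 119, 31, 30, 32, 155, 154, 153, 87, 89, 88, 9, 11, 10, 81, 83, 82, 164, 163, 162, 139, 138, 140,
  52, 51, 53, 29, 28, 27, 108, 110, 109, 12, 14, 13, 102, 104, 103, 38, 37, 36, 160, 159, 161, 73, 72, 74,
  50, 49, 48, 129, 131, 130, 15, 17, 16, 123, 125, 124, 59, 58, 57, 34, 33, 35, 94, 93, 95, 71, 70, 69,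
  150, 152, 151, 18, 20, 19, 144, 146, 145, 80, 79, 78, 55, 54, 56, 115, 114, 116, 92, 91, 90, 24, 26, 25]

/-- The image of an index, for three given generator images. -/
def img {M : Type*} [Monoid M] (X Y W : M) : Ix168 → M :=
  Sum.elim (fun p => X ^ p.1.val * Y ^ p.2.val)
    (fun p => X ^ p.1.val * W * X ^ p.2.1.val * Y ^ p.2.2.val)

set_option maxHeartbeats 2000000 in
theorem el_step : ∀ i : Fin 168,
    el168 (ix i) * shift7 = el168 (ix (nX.getD i.val 0)) ∧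
    el168 (ix i) * dbl7 = el168 (ix (nY.getD i.val 0)) ∧
    el168 (ix i) * inv7 = el168 (ix (nW.getD i.val 0)) := by decide +kernel

set_option maxHeartbeats 2000000 in
theorem img_step_X : ∀ i : Fin 168, img mX mY mW (ix i) * mX = img mX mY mW (ix (nX.getD i.val 0)) := by
  decide +kernel

set_option maxHeartbeats 2000000 in
theorem img_step_Y : ∀ i : Fin 168, img mX mY mW (ix i) * mY = img mX mY mW (ix (nY.getD i.val 0)) := by
  decide +kernel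

set_option maxHeartbeats 2000000 in
theorem img_step_W : ∀ i : Fin 168, img mX mY mW (ix i) * mW = img mX mY mW (ix (nW.getD i.val 0)) := by
  decide +kernel

theorem ix_surjective : Function.Surjective ix := by
  rw [Function.Surjective]
  decide +kernel

theorem one_ix : el168 (ix 0) = 1 ∧ ix 0 = Sum.inl (0, 0) := by decide +kernel

theorem unitary_gens : mX.det = 1 ∧ mY.det = 1 ∧ mW.det = 1 ∧
    mX * (mX.map fun x => x ^ 3)ᵀ = 1 ∧ mY * (mY.map fun x => x ^ 3)ᵀ = 1 ∧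
    mW * (mW.map fun x => x ^ 3)ᵀ = 1 := by decide +kernel

theorem r9_inverse : ∀ u v : ZMod 3,
    ((⟨u, v⟩ : R9)) ≠ 0 → ∃ s t : ZMod 3, (⟨u, v⟩ : R9) * ⟨s, t⟩ = 1 := by decide +kernel

theorem r9_three : (3 : R9) = 0 := by decide +kernel

end Cfsg.Agent.Lib.SmallSimple.UnitaryThree168
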